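import Cfsg.Agent.Lib.Coprime.Generation
import Cfsg.Agent.Lib.Coprime.Abelian

/-!
An odd group acting on an elementary abelian `2`-group with stabilisers of constant order `> 1`
has only fixed-point-free cyclic abelian normal subgroups.
-/

set_option autoImplicit false
set_option linter.style.haveILetI false
set_option maxHeartbeats 400000

namespace Cfsg.Agent.AutOrbit69

open Subgroup

variable {G : Type*} [Group G] [Finite G]

theorem mem_centralizer_iff_comm {H : Subgroup G} {x : G} :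
    x ∈ centralizer (H : Set G) ↔ ∀ h ∈ H, h * x = x * h := mem_centralizer_iff

theorem mem_centralizer_sg {u x : G} : x ∈ centralizer ({u} : Set G) ↔ u * x = x * u := by
  rw [mem_centralizer_iff]; simp

/-- A noncyclic abelian group acting coprimely without fixed points acts on the trivial group. -/
theorem eq_bot_of_fpf (A K : Subgroup G) [IsMulCommutative A] (hA : ¬ IsCyclic A)
    (hAK : A ≤ normalizer (K : Set G)) (hcop : (Nat.card A).Coprime (Nat.card K))
    (h : ∀ a ∈ A, a ≠ 1 → K ⊓ centralizer ({a} : Set G) = ⊥) : K = ⊥ :=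
  eq_bot_iff.2 (Coprime.le_of_centralizer_le A K ⊥ hA hAK hcop fun a ha ha1 => (h a ha ha1).le)

/-- Two independent elements give a noncyclic subgroup meeting `M` trivially. -/
theorem exists_noncyclic (A M : Subgroup G) [IsMulCommutative A] {r : ℕ} (hr : r.Prime)
    (hexp : ∀ a ∈ A, a ^ r = 1) (hM : M ≤ A) {a b : G} (ha : a ∈ A) (haM : a ∉ M) (hb : b ∈ A)
    (hbM : b ∉ M ⊔ zpowers a) :
    ∃ B : Subgroup G, B ≤ A ∧ IsMulCommutative B ∧ ¬ IsCyclic B ∧ B ⊓ M = ⊥ := by
  haveI : Fact r.Prime := ⟨hr⟩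
  have hcomm : ∀ x ∈ A, ∀ y ∈ A, x * y = y * x := fun x hx y hy =>
    congrArg Subtype.val (mul_comm' (⟨x, hx⟩ : A) ⟨y, hy⟩)
  have hle : zpowers a ⊔ zpowers b ≤ A := sup_le (zpowers_le.2 ha) (zpowers_le.2 hb)
  refine ⟨zpowers a ⊔ zpowers b, hle,
    ⟨⟨fun x y => Subtype.ext (hcomm _ (hle x.2) _ (hle y.2))⟩⟩, ?_, ?_⟩
  · intro hcyc
    obtain ⟨⟨g, hg⟩, hgen⟩ := hcyc.exists_generator
    have ha1 : a ≠ 1 := fun e => haM (e ▸ M.one_mem)
    have hg1 : g ≠ 1 := by
      intro e
      obtain ⟨k, hk⟩ := hgen ⟨a, mem_sup_left (mem_zpowers a)⟩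
      have hk' : g ^ k = a := congrArg Subtype.val hk
      exact ha1 (by rw [← hk', e, one_zpow])
    have hog : orderOf g = r := orderOf_eq_prime (hexp g (hle hg)) hg1
    have hoa : orderOf a = r := orderOf_eq_prime (hexp a ha) ha1
    have hsub : zpowers a ≤ zpowers g := by
      rw [zpowers_le]
      obtain ⟨k, hk⟩ := hgen ⟨a, mem_sup_left (mem_zpowers a)⟩
      exact ⟨k, congrArg Subtype.val hk⟩
    have heq : zpowers a = zpowers g := eq_of_le_of_card_ge hsub (by
      rw [Nat.card_zpowers, Nat.card_zpowers, hog, hoa])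
    obtain ⟨k, hk⟩ := hgen ⟨b, mem_sup_right (mem_zpowers b)⟩
    refine hbM (mem_sup_right ?_)
    rw [heq]
    exact ⟨k, congrArg Subtype.val hk⟩
  · refine eq_bot_iff.2 fun x hx => ?_
    have hnorm : zpowers a ≤ normalizer (zpowers b : Set G) := fun y hy => by
      refine Coprime.le_normalizer_of_conj_mem (A := zpowers a) (fun c hc z hz => ?_) hy
      rw [hcomm c (zpowers_le.2 ha hc) z (zpowers_le.2 hb hz), mul_inv_cancel_right]
      exact hz
    have hx1 : x ∈ ((zpowers a ⊔ zpowers b : Subgroup G) : Set G) := hx.1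
    rw [coe_mul_of_left_le_normalizer_right _ _ hnorm] at hx1
    obtain ⟨g, hg, h, hh, rfl⟩ := hx1
    by_cases h1 : h = 1
    · subst h1
      simp only [mul_one] at hx ⊢
      by_contra hg1
      have hg1' : g ≠ 1 := fun e => hg1 (mem_bot.2 e)
      have ha1 : a ≠ 1 := fun e => haM (e ▸ M.one_mem)
      have : zpowers g = zpowers a := eq_of_le_of_card_ge (zpowers_le.2 hg) (by
        rw [Nat.card_zpowers, Nat.card_zpowers, orderOf_eq_prime (hexp a ha) ha1,
          orderOf_eq_prime (hexp g (zpowers_le.2 ha hg)) hg1'])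
      exact haM (zpowers_le.2 hx.2 (this ▸ mem_zpowers a))
    · exfalso
      have hb1 : b ≠ 1 := fun e => hbM (e ▸ one_mem _)
      have : zpowers h = zpowers b := eq_of_le_of_card_ge (zpowers_le.2 hh) (by
        rw [Nat.card_zpowers, Nat.card_zpowers, orderOf_eq_prime (hexp b hb) hb1,
          orderOf_eq_prime (hexp h (zpowers_le.2 hb hh)) h1])
      have hh' : h ∈ M ⊔ zpowers a := by
        have e : h = g⁻¹ * (g * h) := by group
        rw [e]
        exact mul_mem (inv_mem (mem_sup_right hg)) (mem_sup_left hx.2)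
      exact hbM (zpowers_le.2 hh' (this ▸ mem_zpowers b))

/-- A maximal stabiliser in a group of prime exponent has index at most the prime. -/
theorem le_sup_zpowers (A M K : Subgroup G) [IsMulCommutative A] {r : ℕ} (hr : r.Prime)
    (hexp : ∀ a ∈ A, a ^ r = 1) (hAK : A ≤ normalizer (K : Set G))
    (hcop : (Nat.card A).Coprime (Nat.card K)) (hM : M ≤ A)
    (hne : K ⊓ centralizer (M : Set G) ≠ ⊥)
    (hmax : ∀ a ∈ A, a ∉ M → K ⊓ centralizer (M : Set G) ⊓ centralizer ({a} : Set G) = ⊥)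
    {a : G} (ha : a ∈ A) (haM : a ∉ M) : A ≤ M ⊔ zpowers a := by
  intro b hb
  by_contra hbM
  obtain ⟨B, hBA, hBc, hBn, hBM⟩ := exists_noncyclic A M hr hexp hM ha haM hb hbM
  have hAM : A ≤ normalizer (M : Set G) := fun x hx => by
    refine Coprime.le_normalizer_of_conj_mem (A := A) (fun c hc z hz => ?_) hx
    rw [show c * z = z * c from congrArg Subtype.val (mul_comm' (⟨c, hc⟩ : A) ⟨z, hM hz⟩),
      mul_inv_cancel_right]
    exact hz
  refine hne (eq_bot_of_fpf B _ hBn
    (hBA.trans (Coprime.le_normalizer_inf hAK (Coprime.le_normalizer_centralizer hAM)))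
    ((hcop.coprime_dvd_left (card_dvd_of_le hBA)).coprime_dvd_right (card_dvd_of_le inf_le_left))
    fun e he he1 => hmax e (hBA he) fun heM => he1 ?_)
  exact mem_bot.1 (hBM ▸ ⟨he, heM⟩)

section HalfTransitive

variable {S H A : Subgroup G}

/-- If `S = D × C` then factors are unique. -/
theorem eq_of_mul_eq {C D : Subgroup G} (h : D ⊓ C = ⊥) {d d' c c' : G} (hd : d ∈ D) (hd' : d' ∈ D)
    (hc : c ∈ C) (hc' : c' ∈ C) (he : d * c = d' * c') : d = d' ∧ c = c' := by
  have h1 : d'⁻¹ * d = c' * c⁻¹ := by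
    calc d'⁻¹ * d = d'⁻¹ * (d * c) * c⁻¹ := by group
      _ = d'⁻¹ * (d' * c') * c⁻¹ := by rw [he]
      _ = c' * c⁻¹ := by group
  have h2 : d'⁻¹ * d ∈ D ⊓ C :=
    ⟨D.mul_mem (D.inv_mem hd') hd, h1 ▸ C.mul_mem hc' (C.inv_mem hc)⟩
  rw [h, mem_bot] at h2
  have hdd : d = d' := (inv_mul_eq_one.1 h2).symm
  exact ⟨hdd, by subst hdd; exact mul_left_cancel he⟩

theorem conj_mem_commutator {n x : G} {K M : Subgroup G} (hK : n ∈ normalizer (K : Set G))
    (hM : n ∈ normalizer (M : Set G)) (hx : x ∈ ⁅K, M⁆) : n * x * n⁻¹ ∈ ⁅K, M⁆ := by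
  refine (Subgroup.commutator_le.mpr fun u hu v hv => ?_ :
    ⁅K, M⁆ ≤ ⁅K, M⁆.comap ((MulAut.conj n : G ≃* G) : G →* G)) hx
  show n * (u * v * u⁻¹ * v⁻¹) * n⁻¹ ∈ ⁅K, M⁆
  have := Subgroup.commutator_mem_commutator (Coprime.conj_mem_of_mem_normalizer hK hu)
    (Coprime.conj_mem_of_mem_normalizer hM hv)
  simpa [commutatorElement_def, mul_assoc] using this

/-- The conjugate of a subgroup. -/
def cj (n : G) (M : Subgroup G) : Subgroup G := M.map (MulAut.conj n).toMonoidHom

omit [Finite G] in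
theorem mem_cj {n x : G} {M : Subgroup G} : x ∈ cj n M ↔ n⁻¹ * x * n ∈ M := by
  constructor
  · rintro ⟨y, hy, rfl⟩
    simpa [mul_assoc] using hy
  · intro h
    exact ⟨n⁻¹ * x * n, h, by simp [mul_assoc]⟩

theorem conj_mem_centralizer_cj {n x : G} {M : Subgroup G} (hx : x ∈ centralizer (M : Set G)) :
    n * x * n⁻¹ ∈ centralizer (cj n M : Set G) := by
  rw [mem_centralizer_iff_comm]
  intro y hy
  have h := mem_centralizer_iff_comm.1 hx _ (mem_cj.1 hy)
  calc y * (n * x * n⁻¹) = n * (n⁻¹ * y * n * x) * n⁻¹ := by group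
    _ = n * (x * (n⁻¹ * y * n)) * n⁻¹ := by rw [h]
    _ = n * x * n⁻¹ * y := by group

variable (S H A : Subgroup G)

/-- A component: a maximal stabiliser in `A`. -/
def IsComp (M : Subgroup G) : Prop :=
  M ≤ A ∧ S ⊓ centralizer (M : Set G) ≠ ⊥ ∧
    ∀ a ∈ A, a ∉ M → S ⊓ centralizer (M : Set G) ⊓ centralizer ({a} : Set G) = ⊥

/-- The hypotheses of a half transitive action. -/
structure HalfTrans (c : ℕ) (r : ℕ) : Prop where
  comm : IsMulCommutative S
  sq : ∀ s ∈ S, s ^ 2 = 1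
  norm : H ≤ normalizer (S : Set G)
  odd : Odd (Nat.card H)
  faith : H ⊓ centralizer (S : Set G) = ⊥
  const : ∀ u ∈ S, u ≠ 1 → Nat.card (H ⊓ centralizer ({u} : Set G) : Subgroup G) = c
  one_lt : 1 < c
  Asub : A ≤ H
  Anorm : H ≤ normalizer (A : Set G)
  Acomm : IsMulCommutative A
  prime : r.Prime
  exp : ∀ a ∈ A, a ^ r = 1
  Ane : A ≠ ⊥

variable {S H A} {c r : ℕ}

theorem HalfTrans.coprime (h : HalfTrans S H A c r) {B : Subgroup G} (hB : B ≤ H) {K : Subgroup G}
    (hK : K ≤ S) : (Nat.card B).Coprime (Nat.card K) := by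
  have h2 : IsPGroup 2 S := fun x => ⟨1, Subtype.ext (by simpa using h.sq x x.2)⟩
  obtain ⟨n, hn⟩ := (h2.to_le hK).exists_card_eq
  rw [hn]
  refine Nat.Coprime.pow_right _ ?_
  exact Nat.coprime_two_right.2 (Odd.of_dvd_nat h.odd (card_dvd_of_le hB))

theorem HalfTrans.split (h : HalfTrans S H A c r) {M : Subgroup G} (hM : M ≤ A) :
    (∀ s ∈ S, ∃ d ∈ ⁅S, M⁆, ∃ e ∈ S ⊓ centralizer (M : Set G), s = d * e) ∧
      ⁅S, M⁆ ⊓ (S ⊓ centralizer (M : Set G)) = ⊥ ∧ ⁅S, M⁆ ≤ S := by
  haveI := h.comm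
  have hMH : M ≤ H := hM.trans h.Asub
  have hMS : M ≤ normalizer (S : Set G) := hMH.trans h.norm
  have hsol : Group.IsSolvable M ∨ Group.IsSolvable S :=
    Or.inr (Group.isSolvable_of_comm fun a b => mul_comm' a b)
  refine ⟨fun s hs => Coprime.exists_commutator_mul_centralizer M S hMS (h.coprime hMH le_rfl) hsol s hs,
    ?_, Coprime.commutator_le_of_le_normalizer hMS⟩
  refine eq_bot_iff.2 fun x hx => ?_
  rw [← Coprime.commutator_inf_centralizer_eq_bot M S hMS (h.coprime hMH le_rfl)]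
  exact ⟨hx.1, hx.2.2⟩

/-- The stabiliser of `u * w` fixes both factors when `n` cannot mix them. -/
theorem HalfTrans.stab_eq (h : HalfTrans S H A c r) {u w : G} (huw : u * w ≠ 1) (hu : u ∈ S)
    (hw : w ∈ S) (hu1 : u ≠ 1) (hw1 : w ≠ 1)
    (hmix : ∀ n ∈ H, n * (u * w) * n⁻¹ = u * w → n * u * n⁻¹ = u) :
    H ⊓ centralizer ({u} : Set G) = H ⊓ centralizer ({w} : Set G) := by
  have key : H ⊓ centralizer ({u * w} : Set G) ≤
      (H ⊓ centralizer ({u} : Set G)) ⊓ (H ⊓ centralizer ({w} : Set G)) := by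
    intro n hn
    have hn2 := mem_centralizer_sg.1 hn.2
    have e1 : n * (u * w) * n⁻¹ = u * w := by rw [← hn2, mul_inv_cancel_right]
    have e2 := hmix n hn.1 e1
    have e3 : n * w * n⁻¹ = w := by
      have e4 : n * (u * w) * n⁻¹ = (n * u * n⁻¹) * (n * w * n⁻¹) := by group
      rw [e4, e2] at e1
      exact mul_left_cancel e1
    exact ⟨⟨hn.1, mem_centralizer_sg.2 (mul_inv_eq_iff_eq_mul.1 e2).symm⟩,
      ⟨hn.1, mem_centralizer_sg.2 (mul_inv_eq_iff_eq_mul.1 e3).symm⟩⟩
  have hc := h.const (u * w) (S.mul_mem hu hw) huw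
  have e1 : H ⊓ centralizer ({u * w} : Set G) = H ⊓ centralizer ({u} : Set G) :=
    eq_of_le_of_card_ge (key.trans inf_le_left) (by rw [hc, h.const u hu hu1])
  have e2 : H ⊓ centralizer ({u * w} : Set G) = H ⊓ centralizer ({w} : Set G) :=
    eq_of_le_of_card_ge (key.trans inf_le_right) (by rw [hc, h.const w hw hw1])
  rw [← e1, e2]

theorem HalfTrans.false_of_common (h : HalfTrans S H A c r) {u : G} (hu : u ∈ S) (hu1 : u ≠ 1)
    (hall : S ≤ centralizer ((H ⊓ centralizer ({u} : Set G) : Subgroup G) : Set G)) : False := by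
  have hc := h.const u hu hu1
  have : H ⊓ centralizer ({u} : Set G) = ⊥ := by
    refine eq_bot_iff.2 fun x hx => ?_
    rw [← h.faith]
    exact ⟨hx.1, mem_centralizer_iff_comm.2 fun s hs =>
      (mem_centralizer_iff_comm.1 (hall hs) x hx).symm⟩
  rw [this, card_bot] at hc
  have := h.one_lt
  omega

/-- `A` has no nontrivial fixed point in `S`. -/
theorem HalfTrans.fix_eq_bot (h : HalfTrans S H A c r) : S ⊓ centralizer (A : Set G) = ⊥ := by
  obtain ⟨hsp, hdisj, hDle⟩ := h.split le_rfl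
  by_contra hF
  obtain ⟨u, hu, hu1⟩ := (Subgroup.bot_or_exists_ne_one _).resolve_left hF
  have hpair : ∀ a ∈ S ⊓ centralizer (A : Set G), a ≠ 1 → ∀ d ∈ ⁅S, A⁆, d ≠ 1 →
      H ⊓ centralizer ({a} : Set G) = H ⊓ centralizer ({d} : Set G) := by
    intro a ha ha1 d hd hd1
    have hda : a * d = d * a :=
      congrArg Subtype.val (@mul_comm' S _ h.comm ⟨a, ha.1⟩ ⟨d, hDle hd⟩)
    have had : a * d ≠ 1 := by
      intro e
      have : d ∈ ⁅S, A⁆ ⊓ (S ⊓ centralizer (A : Set G)) := ⟨hd, by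
        rw [eq_inv_of_mul_eq_one_right e]; exact Subgroup.inv_mem _ ha⟩
      rw [hdisj, mem_bot] at this
      exact hd1 this
    refine h.stab_eq had ha.1 (hDle hd) ha1 hd1 fun n hn he => ?_
    have hnA := h.Anorm hn
    have hnS := h.norm hn
    have h1 : n * d * n⁻¹ ∈ ⁅S, A⁆ := conj_mem_commutator hnS hnA hd
    have h2 : n * a * n⁻¹ ∈ S ⊓ centralizer (A : Set G) := by
      refine ⟨Coprime.conj_mem_of_mem_normalizer hnS ha.1, ?_⟩
      exact Coprime.conj_mem_of_mem_normalizer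
        (Coprime.le_normalizer_centralizer h.Anorm hn) ha.2
    have he' : (n * d * n⁻¹) * (n * a * n⁻¹) = d * a := by
      rw [← hda, ← he, hda]; group
    exact (eq_of_mul_eq hdisj h1 hd h2 ha he').2
  by_cases hD : ⁅S, A⁆ = ⊥
  · refine h.Ane (eq_bot_iff.2 fun a ha => ?_)
    rw [← h.faith]
    refine ⟨h.Asub ha, mem_centralizer_iff_comm.2 fun s hs => ?_⟩
    obtain ⟨d, hd, e, he, rfl⟩ := hsp s hs
    rw [hD, mem_bot] at hd
    rw [hd, one_mul]
    exact (mem_centralizer_iff_comm.1 he.2 a ha).symm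
  obtain ⟨d₀, hd₀, hd₀1⟩ := (Subgroup.bot_or_exists_ne_one _).resolve_left hD
  refine h.false_of_common hu.1 hu1 fun s hs => mem_centralizer_iff_comm.2 fun x hx => ?_
  obtain ⟨d, hd, e, he, rfl⟩ := hsp s hs
  have c1 : x * d = d * x := by
    by_cases d1 : d = 1
    · simp [d1]
    rw [hpair u hu hu1 d hd d1] at hx
    exact (mem_centralizer_sg.1 hx.2).symm
  have c2 : x * e = e * x := by
    by_cases e1 : e = 1
    · simp [e1]
    rw [hpair u hu hu1 d₀ hd₀ hd₀1, ← hpair e he e1 d₀ hd₀ hd₀1] at hx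
    exact (mem_centralizer_sg.1 hx.2).symm
  rw [← mul_assoc, c1, mul_assoc, c2, mul_assoc]

theorem HalfTrans.le_normalizer (h : HalfTrans S H A c r) {M : Subgroup G} (hM : M ≤ A) :
    A ≤ normalizer (M : Set G) := fun a ha => by
  haveI := h.Acomm
  refine Coprime.le_normalizer_of_conj_mem (A := A) (fun d hd z hz => ?_) ha
  rw [show d * z = z * d from congrArg Subtype.val (mul_comm' (⟨d, hd⟩ : A) ⟨z, hM hz⟩),
    mul_inv_cancel_right]
  exact hz

/-- Components generate. -/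
theorem HalfTrans.gen (h : HalfTrans S H A c r) (W : Subgroup G)
    (hW : ∀ M, IsComp S A M → S ⊓ centralizer (M : Set G) ≤ W) :
    ∀ B : Subgroup G, B ≤ A → S ⊓ centralizer (B : Set G) ≤ W := by
  haveI := h.Acomm
  have hF := h.fix_eq_bot
  have hAS : A ≤ normalizer (S : Set G) := h.Asub.trans h.norm
  have hAN : ∀ M : Subgroup G, M ≤ A → A ≤ normalizer (M : Set G) := fun M hM => h.le_normalizer hM
  intro B hB
  induction k : Nat.card A - Nat.card B using Nat.strong_induction_on generalizing B with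
  | h m ih =>
    subst k
    by_cases h0 : S ⊓ centralizer (B : Set G) = ⊥
    · rw [h0]; exact bot_le
    by_cases hmax : ∀ a ∈ A, a ∉ B → S ⊓ centralizer (B : Set G) ⊓ centralizer ({a} : Set G) = ⊥
    · exact hW B ⟨hB, h0, hmax⟩
    push Not at hmax
    obtain ⟨a, ha, haB, hne⟩ := hmax
    have hnle : ¬ A ≤ B ⊔ zpowers a := by
      intro hle
      refine hne (eq_bot_iff.2 fun x hx => ?_)
      rw [← hF]
      refine ⟨hx.1.1, mem_centralizer_iff_comm.2 fun b hb => ?_⟩
      have : B ⊔ zpowers a ≤ centralizer ({x} : Set G) := by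
        refine sup_le (fun y hy => mem_centralizer_sg.2 (mem_centralizer_iff_comm.1 hx.1.2 y hy).symm)
          (zpowers_le.2 (mem_centralizer_sg.2 (mem_centralizer_sg.1 hx.2).symm))
      exact (mem_centralizer_sg.1 (this (hle hb))).symm
    obtain ⟨b, hb, hbB⟩ := SetLike.not_le_iff_exists.1 hnle
    obtain ⟨B', hB'A, hB'c, hB'n, hB'B⟩ := exists_noncyclic A B h.prime h.exp hB ha haB hb hbB
    haveI := hB'c
    refine Coprime.le_of_centralizer_le B' _ _ hB'n
      (hB'A.trans (Coprime.le_normalizer_inf hAS (Coprime.le_normalizer_centralizer (hAN B hB))))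
      (h.coprime (hB'A.trans h.Asub) inf_le_left) fun e he he1 => ?_
    have heB : e ∉ B := fun heB => he1 (mem_bot.1 (hB'B ▸ ⟨he, heB⟩))
    have hle : B ⊔ zpowers e ≤ A := sup_le hB (zpowers_le.2 (hB'A he))
    refine le_trans ?_ (ih _ ?_ (B ⊔ zpowers e) hle rfl)
    · intro x hx
      refine ⟨hx.1.1, mem_centralizer_iff_comm.2 fun y hy => ?_⟩
      have : B ⊔ zpowers e ≤ centralizer ({x} : Set G) :=
        sup_le (fun y hy => mem_centralizer_sg.2 (mem_centralizer_iff_comm.1 hx.1.2 y hy).symm)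
          (zpowers_le.2 (mem_centralizer_sg.2 (mem_centralizer_sg.1 hx.2).symm))
      exact (mem_centralizer_sg.1 (this hy)).symm
    · have h1 : Nat.card B < Nat.card (B ⊔ zpowers e : Subgroup G) := by
        refine lt_of_le_of_ne (card_le_of_le le_sup_left) fun he' => heB ?_
        rw [eq_of_le_of_card_ge le_sup_left he'.ge]
        exact mem_sup_right (mem_zpowers e)
      have h2 := card_le_of_le hle
      omega

theorem HalfTrans.le_sup (h : HalfTrans S H A c r) :
    ∀ M M', IsComp S A M → IsComp S A M' → M ≠ M' → A ≤ M ⊔ M' := by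
  haveI := h.Acomm
  have hF := h.fix_eq_bot
  have hAS : A ≤ normalizer (S : Set G) := h.Asub.trans h.norm
  have hAN : ∀ M : Subgroup G, M ≤ A → A ≤ normalizer (M : Set G) := fun M hM => h.le_normalizer hM
  intro M M' hM hM' hne
  have hnle : ¬ M' ≤ M := by
    intro hle
    obtain ⟨x, hxM, hxM'⟩ := SetLike.not_le_iff_exists.1 (fun h' => hne (le_antisymm h' hle))
    refine hM.2.1 (eq_bot_iff.2 fun y hy => ?_)
    rw [← hM'.2.2 x (hM.1 hxM) hxM']
    exact ⟨⟨hy.1, centralizer_le (SetLike.coe_subset_coe.2 hle) hy.2⟩,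
      mem_centralizer_sg.2 (mem_centralizer_iff_comm.1 hy.2 x hxM)⟩
  obtain ⟨x, hxM', hxM⟩ := SetLike.not_le_iff_exists.1 hnle
  exact (le_sup_zpowers A M S h.prime h.exp hAS (h.coprime h.Asub le_rfl) hM.1 hM.2.1 hM.2.2
    (hM'.1 hxM') hxM).trans (sup_le_sup_left (zpowers_le.2 hxM') _)

theorem HalfTrans.mem_commutator (h : HalfTrans S H A c r) :
    ∀ L M, IsComp S A L → IsComp S A M → L ≠ M →
      S ⊓ centralizer (L : Set G) ≤ ⁅S, M⁆ := by
  haveI := h.Acomm
  have hF := h.fix_eq_bot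
  have hAS : A ≤ normalizer (S : Set G) := h.Asub.trans h.norm
  have hAN : ∀ M : Subgroup G, M ≤ A → A ≤ normalizer (M : Set G) := fun M hM => h.le_normalizer hM
  have hsup := h.le_sup
  intro L M hL hM hne s hs
  obtain ⟨hsp, hdisj, hDle⟩ := h.split hM.1
  obtain ⟨d, hd, e, he, rfl⟩ := hsp s hs.1
  suffices e = 1 by rw [this, mul_one]; exact hd
  rw [← mem_bot, ← hF]
  refine ⟨he.1, mem_centralizer_iff_comm.2 fun b hb => ?_⟩
  have hLe : ∀ l ∈ L, l * e = e * l := by
    intro l hl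
    have hlA := hL.1 hl
    have hc := mem_centralizer_iff_comm.1 hs.2 l hl
    have h1 : l * d * l⁻¹ ∈ ⁅S, M⁆ := conj_mem_commutator (hAS hlA) (hAN M hM.1 hlA) hd
    have h2 : l * e * l⁻¹ ∈ S ⊓ centralizer (M : Set G) :=
      Coprime.conj_mem_of_mem_normalizer
        (Coprime.le_normalizer_inf hAS (Coprime.le_normalizer_centralizer (hAN M hM.1)) hlA) he
    have he' : (l * d * l⁻¹) * (l * e * l⁻¹) = d * e := by
      calc (l * d * l⁻¹) * (l * e * l⁻¹) = (l * (d * e)) * l⁻¹ := by group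
        _ = d * e := by rw [hc, mul_inv_cancel_right]
    exact mul_inv_eq_iff_eq_mul.1 (eq_of_mul_eq hdisj h1 hd h2 he he').2
  have : L ⊔ M ≤ centralizer ({e} : Set G) :=
    sup_le (fun l hl => mem_centralizer_sg.2 (hLe l hl).symm)
      (fun m hm => mem_centralizer_sg.2 (mem_centralizer_iff_comm.1 he.2 m hm).symm)
  exact (mem_centralizer_sg.1 (this (hsup L M hL hM hne hb))).symm

theorem HalfTrans.isComp_cj (h : HalfTrans S H A c r) :
    ∀ n ∈ H, ∀ M, IsComp S A M → IsComp S A (cj n M) := by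
  intro n hn M hM
  have hnA := h.Anorm hn
  have hnS := h.norm hn
  refine ⟨?_, ?_, ?_⟩
  · rintro _ ⟨y, hy, rfl⟩
    exact Coprime.conj_mem_of_mem_normalizer hnA (hM.1 hy)
  · obtain ⟨x, hx, hx1⟩ := (Subgroup.bot_or_exists_ne_one _).resolve_left hM.2.1
    intro e
    have hmem : n * x * n⁻¹ ∈ S ⊓ centralizer (cj n M : Set G) :=
      ⟨Coprime.conj_mem_of_mem_normalizer hnS hx.1, conj_mem_centralizer_cj hx.2⟩
    rw [e, mem_bot] at hmem
    exact hx1 (conj_eq_one_iff.1 hmem)
  · intro a ha haM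
    refine eq_bot_iff.2 fun x hx => ?_
    have ha' : n⁻¹ * a * n ∈ A := Coprime.conj_mem_of_mem_normalizer' hnA ha
    have hcm := hM.2.2 _ ha' fun hh => haM (mem_cj.2 hh)
    have hx' : n⁻¹ * x * n ∈ S ⊓ centralizer (M : Set G) ⊓ centralizer ({n⁻¹ * a * n} : Set G) := by
      refine ⟨⟨Coprime.conj_mem_of_mem_normalizer' hnS hx.1.1,
        mem_centralizer_iff_comm.2 fun m hm => ?_⟩, mem_centralizer_sg.2 ?_⟩
      · have h' := mem_centralizer_iff_comm.1 hx.1.2 (n * m * n⁻¹)
          (mem_cj.2 (by simpa [mul_assoc] using hm))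
        calc m * (n⁻¹ * x * n) = n⁻¹ * ((n * m * n⁻¹) * x) * n := by group
          _ = n⁻¹ * (x * (n * m * n⁻¹)) * n := by rw [h']
          _ = n⁻¹ * x * n * m := by group
      · calc n⁻¹ * a * n * (n⁻¹ * x * n) = n⁻¹ * (a * x) * n := by group
          _ = n⁻¹ * (x * a) * n := by rw [mem_centralizer_sg.1 hx.2]
          _ = n⁻¹ * x * n * (n⁻¹ * a * n) := by group
    rw [hcm, mem_bot] at hx'
    rw [mem_bot]
    calc x = n * (n⁻¹ * x * n) * n⁻¹ := by group
      _ = 1 := by rw [hx']; group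

theorem HalfTrans.stab_pair (h : HalfTrans S H A c r) :
    ∀ M M', IsComp S A M → IsComp S A M' → M ≠ M' →
      ∀ u ∈ S ⊓ centralizer (M : Set G), u ≠ 1 → ∀ w ∈ S ⊓ centralizer (M' : Set G), w ≠ 1 →
      H ⊓ centralizer ({u} : Set G) = H ⊓ centralizer ({w} : Set G) := by
  have hinD := h.mem_commutator
  have hcompcj := h.isComp_cj
  intro M M' hM hM' hne u hu hu1 w hw hw1
  have hS : ∀ x ∈ S, ∀ y ∈ S, x * y = y * x := fun x hx y hy =>
    congrArg Subtype.val (@mul_comm' S _ h.comm ⟨x, hx⟩ ⟨y, hy⟩)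
  have huw : u * w ≠ 1 := by
    intro e
    have hwD := hinD M' M hM' hM hne.symm hw
    have : w ∈ ⁅S, M⁆ ⊓ (S ⊓ centralizer (M : Set G)) :=
      ⟨hwD, by rw [eq_inv_of_mul_eq_one_right e]; exact Subgroup.inv_mem _ hu⟩
    rw [(h.split hM.1).2.1, mem_bot] at this
    exact hw1 this
  refine h.stab_eq huw hu.1 hw.1 hu1 hw1 fun n hn he => ?_
  have hnS := h.norm hn
  have hx : n * u * n⁻¹ ∈ S ⊓ centralizer (cj n M : Set G) :=
    ⟨Coprime.conj_mem_of_mem_normalizer hnS hu.1, conj_mem_centralizer_cj hu.2⟩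
  have hy : n * w * n⁻¹ ∈ S ⊓ centralizer (cj n M' : Set G) :=
    ⟨Coprime.conj_mem_of_mem_normalizer hnS hw.1, conj_mem_centralizer_cj hw.2⟩
  have hxy : (n * u * n⁻¹) * (n * w * n⁻¹) = u * w := by rw [← he]; group
  -- one of the images lies over `M`, likewise over `M'`
  have hstep : ∀ P Q : Subgroup G, ∀ p q : G, IsComp S A P → IsComp S A Q → P ≠ Q →
      p ∈ S ⊓ centralizer (P : Set G) → p ≠ 1 → q ∈ S ⊓ centralizer (Q : Set G) →
      p * q = u * w → cj n M = P ∨ cj n M' = P := by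
    intro P Q p q hP hQ hPQ hp hp1 hq hpq
    by_contra hno
    push Not at hno
    have e1 := hinD _ P (hcompcj n hn M hM) hP hno.1 hx
    have e2 := hinD _ P (hcompcj n hn M' hM') hP hno.2 hy
    have e3 := hinD Q P hQ hP hPQ.symm hq
    have e4 : p ∈ ⁅S, P⁆ ⊓ (S ⊓ centralizer (P : Set G)) := by
      refine ⟨?_, hp⟩
      have : p = (n * u * n⁻¹) * (n * w * n⁻¹) * q⁻¹ := by rw [hxy, ← hpq]; group
      rw [this]
      exact Subgroup.mul_mem _ (Subgroup.mul_mem _ e1 e2) (Subgroup.inv_mem _ e3)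
    rw [(h.split hP.1).2.1, mem_bot] at e4
    exact hp1 e4
  have hinj : ∀ P Q : Subgroup G, cj n P = cj n Q → P = Q := fun P Q e =>
    Subgroup.map_injective (MulAut.conj n).injective e
  have hMM : cj n M = M := by
    rcases hstep M M' u w hM hM' hne hu hu1 hw rfl with h1 | h1
    · exact h1
    rcases hstep M' M w u hM' hM hne.symm hw hw1 hu (hS _ hw.1 _ hu.1) with h2 | h2
    · -- `n` swaps `M` and `M'`
      exfalso
      have hsq : n ^ 2 ∈ normalizer (M : Set G) := by
        rw [pow_two]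
        have e : cj n (cj n M) = M := by rw [h2, h1]
        refine Coprime.mem_normalizer_of_le_iff (fun z hz => ?_) (fun z hz => ?_)
        · rw [← e, mem_cj, mem_cj]
          convert hz using 1
          group
        · have := hz
          rw [← e, mem_cj, mem_cj] at this
          convert this using 1
          group
      have hod : Odd (orderOf n) := by
        have := Odd.of_dvd_nat h.odd (orderOf_dvd_natCard (⟨n, hn⟩ : H))
        rwa [Subgroup.orderOf_mk] at this
      obtain ⟨k, hk⟩ := hod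
      have hn' : n ∈ normalizer (M : Set G) := by
        have : (n ^ 2) ^ (k + 1) = n := by
          rw [← pow_mul, show 2 * (k + 1) = orderOf n + 1 by omega, pow_succ, pow_orderOf_eq_one,
            one_mul]
        exact this ▸ pow_mem hsq _
      refine hne ?_
      rw [← h2]
      refine le_antisymm (fun z hz => mem_cj.2 (Coprime.conj_mem_of_mem_normalizer' hn' hz))
        fun z hz => ?_
      have := Coprime.conj_mem_of_mem_normalizer hn' (mem_cj.1 hz)
      simpa [mul_assoc] using this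
    · exact absurd (h1.symm.trans h2) hne
  have hM'ne : cj n M' ≠ M := fun e => hne (hinj M M' (hMM.trans e.symm))
  have hyD := hinD _ M (hcompcj n hn M' hM') hM hM'ne hy
  have hwD := hinD M' M hM' hM hne.symm hw
  have hxM : n * u * n⁻¹ ∈ S ⊓ centralizer (M : Set G) := by rw [hMM] at hx; exact hx
  refine (eq_of_mul_eq (h.split hM.1).2.1 hyD hwD hxM hu ?_).2
  rw [hS _ hy.1 _ hx.1, hxy, hS _ hu.1 _ hw.1]

/-- A half transitive action has only fixed-point-free cyclic normal abelian subgroups. -/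
theorem HalfTrans.main (h : HalfTrans S H A c r) :
    Nat.card A = r ∧ ∀ a ∈ A, a ≠ 1 → S ⊓ centralizer ({a} : Set G) = ⊥ := by
  haveI := h.Acomm
  haveI : Fact r.Prime := ⟨h.prime⟩
  have hF := h.fix_eq_bot
  obtain ⟨a₀, ha₀, ha₀1⟩ := (Subgroup.bot_or_exists_ne_one _).resolve_left h.Ane
  by_cases hcyc : IsCyclic A
  · have hall : ∀ a ∈ A, a ≠ 1 → A = zpowers a := fun a ha ha1 => by
      obtain ⟨g, hg⟩ := hcyc.exists_generator
      refine (eq_of_le_of_card_ge (zpowers_le.2 ha) ?_).symm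
      rw [Nat.card_zpowers, orderOf_eq_prime (h.exp a ha) ha1,
        ← orderOf_eq_card_of_forall_mem_zpowers hg]
      exact Nat.le_of_dvd h.prime.pos
        (orderOf_dvd_of_pow_eq_one (Subtype.ext (by simpa using h.exp g g.2)))
    refine ⟨by rw [hall a₀ ha₀ ha₀1, Nat.card_zpowers, orderOf_eq_prime (h.exp a₀ ha₀) ha₀1],
      fun a ha ha1 => ?_⟩
    refine eq_bot_iff.2 fun x hx => ?_
    rw [← hF]
    refine ⟨hx.1, mem_centralizer_iff_comm.2 fun b hb => ?_⟩
    rw [hall a ha ha1] at hb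
    obtain ⟨k, rfl⟩ := mem_zpowers_iff.1 hb
    exact (Commute.zpow_left (mem_centralizer_sg.1 hx.2) k).eq
  exfalso
  have hAS : A ≤ normalizer (S : Set G) := h.Asub.trans h.norm
  have hcomA : ∀ a ∈ A, ∀ b ∈ A, a * b = b * a := fun a ha b hb =>
    congrArg Subtype.val (mul_comm' (⟨a, ha⟩ : A) ⟨b, hb⟩)
  have hAN : ∀ M : Subgroup G, M ≤ A → A ≤ normalizer (M : Set G) := fun M hM a ha => by
    refine Coprime.le_normalizer_of_conj_mem (A := A) (fun c hc z hz => ?_) ha
    rw [hcomA c hc z (hM hz), mul_inv_cancel_right]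
    exact hz
  have hpair := h.stab_pair
  have hW : ∀ X : Subgroup G, (∀ M, IsComp S A M → S ⊓ centralizer (M : Set G) ≤ X) → S ≤ X :=
    fun X hX s hs => h.gen X hX ⊥ bot_le
      ⟨hs, mem_centralizer_iff_comm.2 fun y hy => by simp [mem_bot.1 hy]⟩
  -- there are two components
  by_cases hone : ∀ M M', IsComp S A M → IsComp S A M' → M = M'
  · by_cases hex : ∃ M, IsComp S A M
    · obtain ⟨M, hM⟩ := hex
      have hSM : S ≤ S ⊓ centralizer (M : Set G) :=
        hW _ fun L hL => by rw [hone L M hL hM]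
      have hMb : M = ⊥ := by
        refine eq_bot_iff.2 fun m hm => ?_
        rw [← h.faith]
        exact ⟨h.Asub (hM.1 hm), mem_centralizer_iff_comm.2 fun s hs =>
          (mem_centralizer_iff_comm.1 (hSM hs).2 m hm).symm⟩
      refine hcyc ?_
      have hle := le_sup_zpowers A M S h.prime h.exp hAS (h.coprime h.Asub le_rfl) hM.1 hM.2.1
        hM.2.2 ha₀ (by rw [hMb, mem_bot]; exact ha₀1)
      rw [hMb, bot_sup_eq] at hle
      rw [le_antisymm hle (zpowers_le.2 ha₀)]
      infer_instance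
    · push Not at hex
      have hS : S = ⊥ := eq_bot_iff.2 (hW _ fun L hL => absurd hL (hex L))
      have hc : a₀ ∈ centralizer (S : Set G) := by
        rw [mem_centralizer_iff_comm, hS]
        intro y hy
        simp [mem_bot.1 hy]
      have : a₀ ∈ H ⊓ centralizer (S : Set G) := ⟨h.Asub ha₀, hc⟩
      rw [h.faith, mem_bot] at this
      exact ha₀1 this
  push Not at hone
  obtain ⟨M, M', hM, hM', hne⟩ := hone
  obtain ⟨u, hu, hu1⟩ := (Subgroup.bot_or_exists_ne_one _).resolve_left hM.2.1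
  obtain ⟨w, hw, hw1⟩ := (Subgroup.bot_or_exists_ne_one _).resolve_left hM'.2.1
  refine h.false_of_common hu.1 hu1 (hW _ fun L hL x hx => ?_)
  refine mem_centralizer_iff_comm.2 fun m hm => ?_
  by_cases hx1 : x = 1
  · simp [hx1]
  have heq : H ⊓ centralizer ({x} : Set G) = H ⊓ centralizer ({u} : Set G) := by
    by_cases hLM : L = M
    · subst hLM
      rw [hpair L M' hM hM' hne x hx hx1 w hw hw1, hpair L M' hM hM' hne u hu hu1 w hw hw1]
    · exact hpair L M hL hM hLM x hx hx1 u hu hu1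
  rw [← heq] at hm
  exact (mem_centralizer_sg.1 hm.2).symm

end HalfTransitive

end Cfsg.Agent.AutOrbit69
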