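import Mathlib.GroupTheory.Transfer
import Mathlib.GroupTheory.Sylow
import Mathlib.GroupTheory.Nilpotent
import Cfsg.Agent.AutOrbit69.Action

/-!
Simple groups with element orders `1, 2, p, q, 2p`, elements of equal order fused by automorphisms.
-/

set_option autoImplicit false
set_option linter.style.haveILetI false

namespace Cfsg.Agent.AutOrbit69

open Subgroup

/-- The standing hypotheses. -/
structure Orbit5 (G : Type*) [Group G] [Finite G] (p q : ℕ) : Prop where
  simple : IsSimpleGroup G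
  noncomm : ¬ IsMulCommutative G
  hp : p.Prime
  hq : q.Prime
  p2 : p ≠ 2
  q2 : q ≠ 2
  pq : p ≠ q
  orders : ∀ g : G, orderOf g = 1 ∨ orderOf g = 2 ∨ orderOf g = p ∨ orderOf g = q ∨ orderOf g = 2 * p
  exists_twop : ∃ g : G, orderOf g = 2 * p
  exists_q : ∃ g : G, orderOf g = q
  aut : ∀ g g' : G, orderOf g = orderOf g' → ∃ φ : MulAut G, φ g = g'

section General

variable {G : Type*} [Group G] [Finite G]

theorem card_centralizer_aut (φ : MulAut G) (x : G) :
    Nat.card (centralizer ({φ x} : Set G)) = Nat.card (centralizer ({x} : Set G)) := by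
  have e : centralizer ({φ x} : Set G) = (centralizer ({x} : Set G)).map φ.toMonoidHom := by
    ext z
    simp only [Subgroup.mem_map, mem_centralizer_sg, MulEquiv.coe_toMonoidHom]
    constructor
    · intro hz
      refine ⟨φ.symm z, φ.injective ?_, φ.apply_symm_apply z⟩
      simpa using hz
    · rintro ⟨w, hw, rfl⟩
      rw [← map_mul, hw, map_mul]
  rw [e]
  exact Subgroup.card_map_of_injective φ.injective

/-- A nonabelian simple group has no Sylow subgroup centralised by its normaliser. -/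
theorem not_normalizer_le_centralizer [IsSimpleGroup G] (hG : ¬ IsMulCommutative G) {r : ℕ}
    [Fact r.Prime] (hr : r ∣ Nat.card G) (P : Sylow r G)
    (h : normalizer ((P : Subgroup G) : Set G) ≤ centralizer ((P : Subgroup G) : Set G)) : False := by
  have hc := MonoidHom.ker_transferSylow_isComplement' P h
  rcases (MonoidHom.normal_ker (MonoidHom.transferSylow P h)).eq_bot_or_eq_top with e | e
  · rw [e, isComplement'_bot_left] at hc
    refine hG ?_
    have hnil : Group.IsNilpotent G := by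
      have : IsPGroup r (⊤ : Subgroup G) := hc ▸ P.2
      exact (this.of_equiv Subgroup.topEquiv).isNilpotent
    haveI := hnil
    exact ⟨⟨fun a b => IsSimpleGroup.comm_iff_isSolvable.2 inferInstance a b⟩⟩
  · rw [e, isComplement'_top_left] at hc
    have := P.dvd_card_of_dvd_card hr
    rw [hc, card_bot] at this
    exact Fact.out (p := r.Prime) |>.not_dvd_one this

theorem card_eq_mul_pow {H : Subgroup G} {p : ℕ} (hp : p.Prime) (hp2 : p ≠ 2)
    (h : ∀ r : ℕ, r.Prime → r ∣ Nat.card H → r = 2 ∨ r = p) :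
    Nat.card H = 2 ^ (Nat.card H).factorization 2 * p ^ (Nat.card H).factorization p := by
  have h0 : Nat.card H ≠ 0 := Nat.card_pos.ne'
  refine Nat.eq_of_factorization_eq h0
    (mul_ne_zero (pow_ne_zero _ two_ne_zero) (pow_ne_zero _ hp.ne_zero)) fun r => ?_
  rw [Nat.factorization_mul (pow_ne_zero _ two_ne_zero) (pow_ne_zero _ hp.ne_zero),
    Nat.prime_two.factorization_pow, hp.factorization_pow, Finsupp.add_apply, Finsupp.single_apply,
    Finsupp.single_apply]
  by_cases hr : r.Prime ∧ r ∣ Nat.card H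
  · rcases h r hr.1 hr.2 with rfl | rfl
    · rw [if_pos rfl, if_neg hp2, add_zero]
    · rw [if_neg (Ne.symm hp2), if_pos rfl, zero_add]
  · have hz : (Nat.card H).factorization r = 0 := by
      rw [Nat.factorization_eq_zero_iff]
      tauto
    rw [hz]
    split_ifs with a b b <;> subst_vars <;> simp_all

theorem pow_eq_self_of_odd {s : G} (h : s ^ 2 = 1) {n : ℕ} (hn : Odd n) : s ^ n = s := by
  obtain ⟨m, rfl⟩ := hn
  rw [pow_succ, pow_mul, h, one_pow, one_mul]

end General

variable {G : Type*} [Group G] [Finite G] {p q : ℕ} (h : Orbit5 G p q)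
include h

theorem Orbit5.p3 : 3 ≤ p := by
  have := h.hp.two_le
  have := h.p2
  omega

theorem Orbit5.q3 : 3 ≤ q := by
  have := h.hq.two_le
  have := h.q2
  omega

theorem Orbit5.odd_p : Odd p := h.hp.odd_of_ne_two h.p2

theorem Orbit5.odd_q : Odd q := h.hq.odd_of_ne_two h.q2

theorem Orbit5.not_mul {a b : G} (hc : Commute a b) (ha : orderOf a = q)
    (hb : orderOf b = 2 ∨ orderOf b = p) : False := by
  have hq3 := h.q3
  have hp3 := h.p3
  rcases hb with hb | hb
  · have e : orderOf (a * b) = q * 2 := by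
      rw [hc.orderOf_mul_eq_mul_orderOf_of_coprime, ha, hb]
      rw [ha, hb]
      exact Nat.coprime_two_right.2 h.odd_q
    rcases h.orders (a * b) with o | o | o | o | o <;> rw [e] at o
    · omega
    · omega
    · exact (Nat.not_even_iff_odd.2 h.odd_p) ⟨q, by omega⟩
    · omega
    · exact h.pq (by omega)
  · have e : orderOf (a * b) = q * p := by
      rw [hc.orderOf_mul_eq_mul_orderOf_of_coprime, ha, hb]
      rw [ha, hb]
      exact (Nat.coprime_primes h.hq h.hp).2 (Ne.symm h.pq)
    have h1 : q * 3 ≤ q * p := Nat.mul_le_mul le_rfl hp3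
    have h2 : 3 * p ≤ q * p := Nat.mul_le_mul hq3 le_rfl
    rcases h.orders (a * b) with o | o | o | o | o <;> rw [e] at o <;> omega

theorem Orbit5.prime_cases {r : ℕ} (hr : r.Prime) {H : Subgroup G} (hd : r ∣ Nat.card H) :
    r = 2 ∨ r = p ∨ r = q := by
  haveI := Fact.mk hr
  obtain ⟨x, hx⟩ := exists_prime_orderOf_dvd_card' r hd
  rw [← Subgroup.orderOf_coe] at hx
  rcases h.orders (x : G) with o | o | o | o | o <;> rw [hx] at o
  · exact absurd o hr.ne_one
  · exact Or.inl o
  · exact Or.inr (Or.inl o)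
  · exact Or.inr (Or.inr o)
  · exact absurd (o ▸ hr) (Nat.not_prime_mul (by norm_num) h.hp.ne_one)

theorem Orbit5.sq_eq_one {x : G} {k : ℕ} (hx : orderOf x = 2 ^ k) : x ^ 2 = 1 := by
  have hd : orderOf x ∣ 2 := by
    rcases h.orders x with o | o | o | o | o
    · rw [o]; exact one_dvd _
    · rw [o]
    · exfalso
      rw [hx] at o
      exact h.p2 ((Nat.prime_dvd_prime_iff_eq h.hp Nat.prime_two).1
        (h.hp.dvd_of_dvd_pow (dvd_of_eq o.symm)))
    · exfalso
      rw [hx] at o
      exact h.q2 ((Nat.prime_dvd_prime_iff_eq h.hq Nat.prime_two).1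
        (h.hq.dvd_of_dvd_pow (dvd_of_eq o.symm)))
    · exfalso
      rw [hx] at o
      exact h.p2 ((Nat.prime_dvd_prime_iff_eq h.hp Nat.prime_two).1
        (h.hp.dvd_of_dvd_pow (Dvd.intro_left 2 o.symm)))
  exact orderOf_dvd_iff_pow_eq_one.1 hd

theorem Orbit5.two_dvd : 2 ∣ Nat.card G := by
  obtain ⟨g, hg⟩ := h.exists_twop
  exact (Dvd.intro p hg.symm).trans (orderOf_dvd_natCard g)

theorem Orbit5.sylow_sq (S : Sylow 2 G) : ∀ s ∈ (S : Subgroup G), s ^ 2 = 1 := by
  intro s hs
  obtain ⟨k, hk⟩ := IsPGroup.iff_orderOf.1 S.2 ⟨s, hs⟩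
  rw [Subgroup.orderOf_mk] at hk
  exact h.sq_eq_one hk

theorem Orbit5.sylow_comm (S : Sylow 2 G) :
    ∀ s ∈ (S : Subgroup G), ∀ s' ∈ (S : Subgroup G), s * s' = s' * s := by
  intro s hs s' hs'
  have hinv : ∀ z ∈ (S : Subgroup G), z⁻¹ = z := fun z hz =>
    inv_eq_of_mul_eq_one_right (by rw [← sq]; exact h.sylow_sq S z hz)
  have e := hinv (s * s') (mul_mem hs hs')
  rw [_root_.mul_inv_rev, hinv s hs, hinv s' hs'] at e
  exact e.symm

theorem Orbit5.sylow_le_centralizer (S : Sylow 2 G) {u : G} (hu : u ∈ (S : Subgroup G)) :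
    (S : Subgroup G) ≤ centralizer ({u} : Set G) :=
  fun s hs => mem_centralizer_sg.2 (h.sylow_comm S u hu s hs)

theorem Orbit5.orderOf_eq_two (S : Sylow 2 G) {u : G} (hu : u ∈ (S : Subgroup G)) (hu1 : u ≠ 1) :
    orderOf u = 2 := by
  haveI := Fact.mk Nat.prime_two
  exact orderOf_eq_prime (h.sylow_sq S u hu) hu1

theorem Orbit5.four_le_card (S : Sylow 2 G) : 4 ≤ Nat.card (S : Subgroup G) := by
  haveI := Fact.mk Nat.prime_two
  haveI := h.simple
  obtain ⟨n, hn⟩ := IsPGroup.iff_card.1 S.2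
  rcases n with _ | _ | n
  · have := S.dvd_card_of_dvd_card h.two_dvd
    rw [hn] at this
    simp at this
  · exfalso
    refine not_normalizer_le_centralizer h.noncomm h.two_dvd S fun g hg => ?_
    rw [mem_centralizer_iff_comm]
    intro s hs
    by_cases hs1 : s = 1
    · simp [hs1]
    have hs' : g * s * g⁻¹ ∈ (S : Subgroup G) := (mem_normalizer_iff.1 hg s).1 hs
    have hz : zpowers s = (S : Subgroup G) := eq_of_le_of_card_ge (zpowers_le.2 hs) (by
      rw [Nat.card_zpowers, h.orderOf_eq_two S hs hs1, hn]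
      norm_num)
    rw [← hz, mem_zpowers_iff] at hs'
    obtain ⟨k, hk⟩ := hs'
    rcases Int.even_or_odd k with ⟨m, rfl⟩ | ⟨m, rfl⟩
    · exfalso
      rw [← two_mul, zpow_mul, zpow_ofNat, h.sylow_sq S s hs, one_zpow] at hk
      exact hs1 (conj_eq_one_iff.1 hk.symm)
    · rw [zpow_add, zpow_mul, zpow_ofNat, h.sylow_sq S s hs, one_zpow, one_mul, zpow_one] at hk
      exact (mul_inv_eq_iff_eq_mul.1 hk.symm).symm
  · rw [hn, pow_succ, pow_succ]
    have := Nat.one_le_two_pow (n := n)
    omega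

theorem Orbit5.exists_p : ∃ x : G, orderOf x = p := by
  obtain ⟨g, hg⟩ := h.exists_twop
  refine ⟨g ^ 2, ?_⟩
  rw [orderOf_pow, hg, Nat.gcd_mul_right_left, Nat.mul_div_cancel_left _ two_pos]

theorem Orbit5.exists_commuting_involution {x : G} (hx : orderOf x = p) :
    ∃ u : G, orderOf u = 2 ∧ Commute u x := by
  obtain ⟨g, hg⟩ := h.exists_twop
  have h1 : orderOf (g ^ 2) = p := by
    rw [orderOf_pow, hg, Nat.gcd_mul_right_left, Nat.mul_div_cancel_left _ two_pos]
  have h2 : orderOf (g ^ p) = 2 := by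
    rw [orderOf_pow, hg, Nat.gcd_mul_left_left, Nat.mul_div_cancel _ h.hp.pos]
  obtain ⟨φ, hφ⟩ := h.aut _ _ (h1.trans hx.symm)
  refine ⟨φ (g ^ p), ?_, ?_⟩
  · rw [← h2]
    exact orderOf_injective φ.toMonoidHom φ.injective (g ^ p)
  · rw [← hφ]
    exact (Commute.pow_pow_self g p 2).map φ

end Cfsg.Agent.AutOrbit69
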