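import Mathlib.GroupTheory.Index
import Mathlib.Algebra.Order.BigOperators.Group.Finset
import Mathlib.Data.Set.Card
import Mathlib.Tactic.Group

/-!
Double counting bounds for unions of conjugates.
-/

set_option autoImplicit false

namespace Cfsg.Agent.AutOrbit69

/-- If every point of `U` lies in at least `m` of the sets `A i`, each of size at most `B`,
then `m * |U| ≤ |ι| * B`. -/
theorem mul_ncard_le {ι α : Type*} [Finite ι] [Finite α] (A : ι → Set α) (U : Set α) (m B : ℕ)
    (hB : ∀ i, (A i).ncard ≤ B) (hm : ∀ x ∈ U, m ≤ {i : ι | x ∈ A i}.ncard) :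
    m * U.ncard ≤ Nat.card ι * B := by
  classical
  cases nonempty_fintype ι
  cases nonempty_fintype α
  have hU : U.ncard = U.toFinset.card := Set.ncard_eq_toFinset_card' U
  rw [hU, Nat.card_eq_fintype_card, ← Finset.card_univ]
  calc m * U.toFinset.card = ∑ _x ∈ U.toFinset, m := by rw [Finset.sum_const, smul_eq_mul, mul_comm]
    _ ≤ ∑ x ∈ U.toFinset, (Finset.univ.filter fun i => x ∈ A i).card :=
        Finset.sum_le_sum fun x hx => by
          have h := hm x (Set.mem_toFinset.1 hx)
          rwa [Set.ncard_eq_toFinset_card', Set.toFinset_ofPred] at h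
    _ = ∑ x ∈ U.toFinset, ∑ i : ι, (if x ∈ A i then 1 else 0) :=
        Finset.sum_congr rfl fun x _ => Finset.card_filter _ _
    _ = ∑ i : ι, ∑ x ∈ U.toFinset, (if x ∈ A i then 1 else 0) := Finset.sum_comm
    _ ≤ ∑ _i : ι, B := Finset.sum_le_sum fun i _ => by
        rw [← Finset.card_filter]
        refine le_trans (le_of_le_of_eq (Finset.card_le_card fun x hx => ?_)
          (Set.ncard_eq_toFinset_card' (A i)).symm) (hB i)
        exact Set.mem_toFinset.2 (Finset.mem_filter.1 hx).2
    _ = Finset.univ.card * B := by rw [Finset.sum_const, smul_eq_mul]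

variable {G : Type*} [Group G] [Finite G]

/-- A union of conjugates of `F` where each member is stabilised by at least `m` elements. -/
theorem mul_ncard_conj_le (F U : Set G) (m : ℕ)
    (hm : ∀ x ∈ U, ∃ g : G, ∃ V : Set G, m ≤ V.ncard ∧ ∀ v ∈ V, (g * v)⁻¹ * x * (g * v) ∈ F) :
    m * U.ncard ≤ Nat.card G * F.ncard := by
  refine mul_ncard_le (fun g => (fun f => g * f * g⁻¹) '' F) U m F.ncard
    (fun g => Set.ncard_image_le) fun x hx => ?_
  obtain ⟨g, V, hV, hgV⟩ := hm x hx
  refine le_trans hV (le_of_eq_of_le (Set.ncard_image_of_injective V (mul_right_injective g)).symm ?_)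
  refine Set.ncard_le_ncard ?_
  rintro _ ⟨v, hv, rfl⟩
  exact ⟨_, hgV v hv, by group⟩

/-- The size of a conjugacy class times the centraliser order is at most the group order. -/
theorem mul_ncard_class_le (x : G) :
    Nat.card (Subgroup.centralizer ({x} : Set G)) * {y : G | IsConj x y}.ncard ≤ Nat.card G := by
  have h := mul_ncard_conj_le {x} {y : G | IsConj x y}
    (Nat.card (Subgroup.centralizer ({x} : Set G))) fun y hy => ?_
  · rwa [Set.ncard_singleton, mul_one] at h
  · obtain ⟨c, hc⟩ := isConj_iff.1 hy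
    refine ⟨c, (Subgroup.centralizer ({x} : Set G) : Set G), le_of_eq ?_, fun v hv => ?_⟩
    · rw [← Nat.card_coe_set_eq]; rfl
    · have hv' : x * v = v * x :=
        Subgroup.mem_centralizer_iff.1 hv x rfl
      rw [Set.mem_singleton_iff, ← hc]
      calc (c * v)⁻¹ * (c * x * c⁻¹) * (c * v) = v⁻¹ * (x * v) := by group
        _ = x := by rw [hv']; group

/-- The union of finitely many conjugacy classes. -/
theorem mul_ncard_iUnion_class_le (Z : Set G) (U : Set G) (d : ℕ)
    (hd : ∀ z ∈ Z, d ≤ Nat.card (Subgroup.centralizer ({z} : Set G)))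
    (hU : ∀ y ∈ U, ∃ z ∈ Z, IsConj z y) :
    d * U.ncard ≤ Nat.card G * Z.ncard := by
  refine mul_ncard_conj_le Z U d fun y hy => ?_
  obtain ⟨z, hz, hzy⟩ := hU y hy
  obtain ⟨c, hc⟩ := isConj_iff.1 hzy
  refine ⟨c, (Subgroup.centralizer ({z} : Set G) : Set G), le_trans (hd z hz) (le_of_eq ?_),
    fun v hv => ?_⟩
  · rw [← Nat.card_coe_set_eq]; rfl
  · have hv' : z * v = v * z :=
      Subgroup.mem_centralizer_iff.1 hv z rfl
    have e : (c * v)⁻¹ * y * (c * v) = z := by
      rw [← hc]
      calc (c * v)⁻¹ * (c * z * c⁻¹) * (c * v) = v⁻¹ * (z * v) := by group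
        _ = z := by rw [hv']; group
    rw [e]; exact hz

end Cfsg.Agent.AutOrbit69
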