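import Cfsg.Agent.AutOrbit69.Cent
import Cfsg.Agent.AutOrbit69.Count

/-!
Counting elements of each order.
-/

set_option autoImplicit false
set_option linter.style.haveILetI false
set_option linter.unusedSectionVars false

namespace Cfsg.Agent.AutOrbit69

open Subgroup

variable {G : Type*} [Group G] [Finite G]

theorem ncard_coe (H : Subgroup G) : ((H : Set G)).ncard = Nat.card H := by
  rw [← Nat.card_coe_set_eq]; rfl

theorem ncard_coe_diff_one (H : Subgroup G) : ((H : Set G) \ {1}).ncard = Nat.card H - 1 := by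
  rw [Set.ncard_diff_singleton_of_mem H.one_mem, ncard_coe]

variable {p q : ℕ} (h : Orbit5 G p q)
include h

/-- Elements of even order. -/
def evenSet (_h : Orbit5 G p q) : Set G := {g | Even (orderOf g)}

theorem Orbit5.card_partition : Nat.card G ≤
    1 + (evenSet h).ncard + {g : G | orderOf g = p}.ncard + {g : G | orderOf g = q}.ncard := by
  have hsub : (Set.univ : Set G) ⊆
      (({1} : Set G) ∪ evenSet h) ∪ {g : G | orderOf g = p} ∪ {g : G | orderOf g = q} := by
    intro g _
    rcases h.orders g with o | o | o | o | o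
    · exact Or.inl (Or.inl (Or.inl (orderOf_eq_one_iff.1 o)))
    · exact Or.inl (Or.inl (Or.inr (show Even (orderOf g) by rw [o]; exact even_two)))
    · exact Or.inl (Or.inr o)
    · exact Or.inr o
    · exact Or.inl (Or.inl (Or.inr (show Even (orderOf g) by rw [o]; exact even_two_mul p)))
  have h1 := Set.ncard_le_ncard hsub
  rw [Set.ncard_univ] at h1
  have h2 := Set.ncard_union_le (({1} : Set G) ∪ evenSet h ∪ {g : G | orderOf g = p})
    {g : G | orderOf g = q}
  have h3 := Set.ncard_union_le (({1} : Set G) ∪ evenSet h) {g : G | orderOf g = p}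
  have h4 := Set.ncard_union_le ({1} : Set G) (evenSet h)
  rw [Set.ncard_singleton] at h4
  omega

theorem Orbit5.involution_pow {g : G} (hg : Even (orderOf g)) : orderOf (g ^ p) = 2 := by
  rcases h.orders g with o | o | o | o | o
  · rw [o] at hg; exact absurd hg (by decide)
  · have hs : g ^ 2 = 1 := by rw [← o]; exact pow_orderOf_eq_one g
    rwa [pow_eq_self_of_odd hs h.odd_p]
  · rw [o] at hg; exact absurd h.odd_p (Nat.not_odd_iff_even.2 hg)
  · rw [o] at hg; exact absurd h.odd_q (Nat.not_odd_iff_even.2 hg)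
  · rw [orderOf_pow, o, Nat.gcd_mul_left_left, Nat.mul_div_cancel _ h.hp.pos]

variable (S : Sylow 2 G)

theorem Orbit5.exists_conj_involution {u : G} (hu : orderOf u = 2) :
    ∃ v ∈ (S : Subgroup G), v ≠ 1 ∧ IsConj v u := by
  haveI := Fact.mk Nat.prime_two
  obtain ⟨R, hR⟩ := (show IsPGroup 2 (zpowers u) from
    IsPGroup.of_card (n := 1) (by rw [Nat.card_zpowers, hu, pow_one])).exists_le_sylow
  obtain ⟨g, rfl⟩ := MulAction.exists_smul_eq G S R
  obtain ⟨w, hw, e⟩ := exists_of_mem_sylow_smul g S (hR (mem_zpowers u))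
  refine ⟨w, hw, fun hw1 => ?_, isConj_iff.2 ⟨g, e⟩⟩
  rw [hw1, mul_one, mul_inv_cancel] at e
  rw [← e, orderOf_one] at hu
  omega

/-- The elements of even order whose involution is conjugate to `u`. -/
def clsEven (_h : Orbit5 G p q) (u : G) : Set G := {g | Even (orderOf g) ∧ IsConj u (g ^ p)}

theorem Orbit5.clsEven_bound {u : G} (hu : orderOf u = 2) :
    Nat.card (centralizer ({u} : Set G)) * (clsEven h u).ncard ≤
      Nat.card G * {c : G | c ∈ centralizer ({u} : Set G) ∧ c ^ p = 1}.ncard := by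
  have h1 := mul_ncard_conj_le {g : G | g ^ p = u} (clsEven h u)
    (Nat.card (centralizer ({u} : Set G))) fun g hg => ?_
  · refine h1.trans (Nat.mul_le_mul le_rfl ?_)
    refine Set.ncard_le_ncard_of_injOn (fun g => g * u) (fun g hg => ?_)
      (fun a _ b _ e => mul_right_cancel e)
    have hg' : g ^ p = u := hg
    have hc : Commute g u := hg' ▸ Commute.self_pow g p
    have hu2 : u ^ 2 = 1 := by rw [← hu]; exact pow_orderOf_eq_one u
    refine ⟨mem_centralizer_sg.2 (by rw [← mul_assoc, hc.eq]), ?_⟩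
    rw [hc.mul_pow, hg', pow_eq_self_of_odd hu2 h.odd_p, ← sq, hu2]
  · obtain ⟨c, hc⟩ := isConj_iff.1 hg.2
    refine ⟨c, (centralizer ({u} : Set G) : Set G), le_of_eq (ncard_coe _).symm, fun v hv => ?_⟩
    show ((c * v)⁻¹ * g * (c * v)) ^ p = u
    have e : ((c * v)⁻¹ * g * (c * v)) ^ p = (c * v)⁻¹ * g ^ p * (c * v) := by
      have := (map_pow (MulAut.conj (c * v)⁻¹) g p).symm
      simp only [MulAut.conj_apply, inv_inv] at this
      exact this
    rw [e, ← hc]
    have hv' := mem_centralizer_sg.1 hv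
    calc (c * v)⁻¹ * (c * u * c⁻¹) * (c * v) = v⁻¹ * (u * v) := by group
      _ = u := by rw [hv']; group

/-- The bound on elements of even order. -/
theorem Orbit5.even_bound (m B : ℕ)
    (hm : ∀ u ∈ (S : Subgroup G), u ≠ 1 → m ≤ {v : G | v ∈ (S : Subgroup G) ∧ v ≠ 1 ∧ IsConj u v}.ncard)
    (hB : ∀ u ∈ (S : Subgroup G), u ≠ 1 → (clsEven h u).ncard ≤ B) :
    m * (evenSet h).ncard ≤ (Nat.card (S : Subgroup G) - 1) * B := by
  classical
  have h2 := mul_ncard_le (ι := (((S : Subgroup G) : Set G) \ {1} : Set G))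
    (fun v => clsEven h (v : G)) (evenSet h) m B (fun v => hB v v.2.1 v.2.2) fun g hg => ?_
  · rwa [Nat.card_coe_set_eq, ncard_coe_diff_one] at h2
  · obtain ⟨u, hu, hu1, hconj⟩ := h.exists_conj_involution S (h.involution_pow hg)
    refine (hm u hu hu1).trans ?_
    refine Set.ncard_le_ncard_of_injOn (fun v => if hv : v ∈ ((S : Subgroup G) : Set G) \ {1} then ⟨v, hv⟩
      else ⟨u, hu, hu1⟩) (fun v hv => ?_) (fun a ha b hb e => ?_)
    · simp only [dif_pos (show v ∈ ((S : Subgroup G) : Set G) \ {1} from ⟨hv.1, hv.2.1⟩)]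
      exact ⟨hg, (hv.2.2.symm).trans hconj⟩
    · simp only [dif_pos (show a ∈ ((S : Subgroup G) : Set G) \ {1} from ⟨ha.1, ha.2.1⟩),
        dif_pos (show b ∈ ((S : Subgroup G) : Set G) \ {1} from ⟨hb.1, hb.2.1⟩)] at e
      exact congrArg Subtype.val e

/-- Elements of order `p` commute with a Sylow `p`-subgroup. -/
theorem Orbit5.card_sylow_dvd_cent {r : ℕ} [Fact r.Prime] (hr : r = p ∨ r = q) (P : Sylow r G)
    {x : G} (hx : orderOf x = r) : Nat.card (P : Subgroup G) ∣ Nat.card (centralizer ({x} : Set G)) := by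
  have hne : (P : Subgroup G) ≠ ⊥ := fun e => by
    have hd : r ∣ Nat.card G := hx ▸ orderOf_dvd_natCard x
    have := P.dvd_card_of_dvd_card hd
    rw [e, card_bot] at this
    exact (Fact.out (p := r.Prime)).not_dvd_one this
  haveI : Nontrivial (P : Subgroup G) := (Subgroup.nontrivial_iff_ne_bot _).2 hne
  haveI := P.2.center_nontrivial
  obtain ⟨z, hz1⟩ := exists_ne (1 : center (P : Subgroup G))
  have hzo : orderOf ((z : (P : Subgroup G)) : G) = r := by
    obtain ⟨k, hk⟩ := IsPGroup.iff_orderOf.1 P.2 (z : (P : Subgroup G))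
    rw [← Subgroup.orderOf_coe] at hk
    have hne1 : ((z : (P : Subgroup G)) : G) ≠ 1 := fun e => hz1 (Subtype.ext (Subtype.ext e))
    rcases h.orders ((z : (P : Subgroup G)) : G) with o | o | o | o | o
    · exact absurd (orderOf_eq_one_iff.1 o) hne1
    all_goals
      rw [hk] at o ⊢
      have hrp := Fact.out (p := r.Prime)
      rcases k with _ | _ | k
      · exact absurd (orderOf_eq_one_iff.1 (by rw [hk, pow_zero])) hne1
      · exact pow_one r
      · exfalso
        have hr3 : 3 ≤ r := by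
          rcases hr with e | e
          · exact e ▸ h.p3
          · exact e ▸ h.q3
        rw [pow_succ, pow_succ] at o
        have h2p : Nat.Prime (r ^ k * r * r) → False :=
          Nat.not_prime_mul (by have := Nat.one_le_pow k r hrp.pos; nlinarith) (by omega)
        first
          | exact h2p (o ▸ Nat.prime_two)
          | exact h2p (o ▸ h.hp)
          | exact h2p (o ▸ h.hq)
          | exact absurd (show Even (r ^ k * r * r) by rw [o]; exact even_two_mul p)
              (Nat.not_even_iff_odd.2 ((((hrp.odd_of_ne_two (by omega)).pow).mul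
                (hrp.odd_of_ne_two (by omega))).mul (hrp.odd_of_ne_two (by omega))))
  obtain ⟨φ, rfl⟩ := h.aut _ _ (hzo.trans hx.symm)
  rw [card_centralizer_aut]
  exact card_dvd_of_le fun y hy => mem_centralizer_sg.2
    (congrArg Subtype.val ((Subgroup.mem_center_iff.1 z.2) ⟨y, hy⟩)).symm

/-- The bound on elements of order `p`. -/
theorem Orbit5.le_card_cent {r : ℕ} (hr : r = p) [Fact r.Prime] (P : Sylow r G) {x : G}
    (hx : orderOf x = r) :
    tw x * Nat.card (P : Subgroup G) ≤ Nat.card (centralizer ({x} : Set G)) := by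
  subst hr
  refine Nat.le_of_dvd Nat.card_pos (Nat.Coprime.mul_dvd_of_dvd_of_dvd ?_ (Nat.ordProj_dvd _ 2)
    (h.card_sylow_dvd_cent (Or.inl rfl) P hx))
  rw [P.card_eq_multiplicity]
  exact Nat.Coprime.pow _ _ ((Nat.coprime_primes Nat.prime_two h.hp).2 (Ne.symm h.p2))

theorem Orbit5.exists_conj_mem {r : ℕ} [Fact r.Prime] (P : Sylow r G) {x : G} (hx : orderOf x = r) :
    ∃ z ∈ (P : Subgroup G), orderOf z = r ∧ IsConj z x := by
  obtain ⟨R, hR⟩ := (show IsPGroup r (zpowers x) from
    IsPGroup.of_card (n := 1) (by rw [Nat.card_zpowers, hx, pow_one])).exists_le_sylow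
  obtain ⟨g, rfl⟩ := MulAction.exists_smul_eq G P R
  obtain ⟨w, hw, e⟩ := exists_of_mem_sylow_smul g P (hR (mem_zpowers x))
  refine ⟨w, hw, ?_, isConj_iff.2 ⟨g, e⟩⟩
  rw [← hx, ← e]
  exact (orderOf_injective (MulAut.conj g).toMonoidHom (MulAut.conj g).injective w).symm

theorem Orbit5.p_bound [Fact p.Prime] (P : Sylow p G) {x : G} (hx : orderOf x = p) :
    tw x * Nat.card (P : Subgroup G) * {g : G | orderOf g = p}.ncard ≤
      Nat.card G * (Nat.card (P : Subgroup G) - 1) := by
  refine le_trans (mul_ncard_iUnion_class_le {z : G | z ∈ (P : Subgroup G) ∧ orderOf z = p}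
    {g : G | orderOf g = p} (tw x * Nat.card (P : Subgroup G)) (fun z hz => ?_) fun g hg => ?_) ?_
  · rw [h.tw_eq hx hz.2]
    exact h.le_card_cent rfl P hz.2
  · obtain ⟨z, hz, hzo, hc⟩ := h.exists_conj_mem P (show orderOf g = p from hg)
    exact ⟨z, ⟨hz, hzo⟩, hc⟩
  · refine Nat.mul_le_mul le_rfl ?_
    rw [← ncard_coe_diff_one]
    refine Set.ncard_le_ncard fun z hz => ⟨hz.1, fun e => ?_⟩
    have e' : z = 1 := e
    have := hz.2
    rw [e', orderOf_one] at this
    exact h.hp.ne_one this.symm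

/-- The centraliser of an element of order `q` is a Sylow `q`-subgroup. -/
theorem Orbit5.cent_eq_sylow [Fact q.Prime] {y : G} (hy' : orderOf y = q) :
    ∃ R : Sylow q G, centralizer ({y} : Set G) = (R : Subgroup G) := by
  set C := centralizer ({y} : Set G) with hC
  have hCq : IsPGroup q C := by
    refine IsPGroup.iff_orderOf.2 fun c => ?_
    have hc : Commute y (c : G) := mem_centralizer_sg.1 c.2
    rw [← Subgroup.orderOf_coe]
    rcases h.orders (c : G) with o | o | o | o | o
    · exact ⟨0, by rw [o, pow_zero]⟩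
    · exact (h.not_mul hc hy' (Or.inl o)).elim
    · exact (h.not_mul hc hy' (Or.inr o)).elim
    · exact ⟨1, by rw [o, pow_one]⟩
    · refine (h.not_mul (hc.pow_right p) hy' (Or.inl (h.involution_pow ?_))).elim
      rw [o]; exact even_two_mul p
  obtain ⟨R, hR⟩ := hCq.exists_le_sylow
  have hRC : C = (R : Subgroup G) := eq_of_le_of_card_ge hR
    (Nat.le_of_dvd Nat.card_pos (h.card_sylow_dvd_cent (Or.inr rfl) R hy'))
  exact ⟨R, hRC⟩

/-- The bound on elements of order `q`. -/
theorem Orbit5.q_bound [Fact q.Prime] (Q : Sylow q G) :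
    Nat.card (normalizer ((Q : Subgroup G) : Set G)) * {g : G | orderOf g = q}.ncard ≤
      Nat.card G *
        (Nat.card ((Q : Subgroup G) ⊓ centralizer ((Q : Subgroup G) : Set G) : Subgroup G) - 1) := by
  set Z : Subgroup G := (Q : Subgroup G) ⊓ centralizer ((Q : Subgroup G) : Set G) with hZ
  have h1 := mul_ncard_conj_le ((Z : Set G) \ {1}) {g : G | orderOf g = q}
    (Nat.card (normalizer ((Q : Subgroup G) : Set G))) fun y hy => ?_
  · rwa [ncard_coe_diff_one] at h1
  · have hy' : orderOf y = q := hy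
    set C := centralizer ({y} : Set G) with hC
    obtain ⟨R, hRC⟩ : ∃ R : Sylow q G, C = (R : Subgroup G) := h.cent_eq_sylow hy'
    obtain ⟨g, hg⟩ := MulAction.exists_smul_eq G Q R
    refine ⟨g, (normalizer ((Q : Subgroup G) : Set G) : Set G), le_of_eq (ncard_coe _).symm,
      fun v hv => ?_⟩
    have hyR : y ∈ (R : Subgroup G) := hRC ▸ mem_centralizer_sg.2 rfl
    rw [← hg] at hyR
    obtain ⟨w, hw, e⟩ := exists_of_mem_sylow_smul g Q hyR
    have hwc : w ∈ centralizer ((Q : Subgroup G) : Set G) := mem_centralizer_iff_comm.2 fun z hz => by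
      have hzC : g * z * g⁻¹ ∈ C := by rw [hRC, ← hg]; exact conj_mem_sylow_smul g Q hz
      have hz' := mem_centralizer_sg.1 hzC
      rw [← e] at hz'
      have := congrArg (fun t => g⁻¹ * t * g) hz'
      simpa [mul_assoc] using this.symm
    have hv' : v ∈ normalizer ((Q : Subgroup G) : Set G) := hv
    have hmem : v⁻¹ * w * v ∈ Z := ⟨(mem_normalizer_iff''.1 hv' w).1 hw,
      Coprime.conj_mem_of_mem_normalizer'
        (Coprime.le_normalizer_centralizer (A := normalizer ((Q : Subgroup G) : Set G)) le_rfl hv') hwc⟩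
    have e2 : (g * v)⁻¹ * y * (g * v) = v⁻¹ * w * v := by rw [← e]; group
    rw [e2]
    refine ⟨hmem, fun e3 => ?_⟩
    have e4 : v⁻¹ * w * v = 1 := e3
    have : w = 1 := by
      calc w = v * (v⁻¹ * w * v) * v⁻¹ := by group
        _ = 1 := by rw [e4]; group
    rw [this, mul_one, mul_inv_cancel] at e
    rw [← e, orderOf_one] at hy'
    have := h.q3
    omega

end Cfsg.Agent.AutOrbit69
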