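import Cfsg.Agent.AutOrbit69.Basic
import Cfsg.Agent.S0018
import Cfsg.Agent.S0144

/-!
Centralisers of involutions and of elements of order `p`.
-/

set_option autoImplicit false
set_option linter.style.haveILetI false
set_option linter.unusedSectionVars false

namespace Cfsg.Agent.AutOrbit69

open Subgroup

variable {G : Type*} [Group G] [Finite G]

/-- The `2`-part of the order of the centraliser. -/
noncomputable def tw (x : G) : ℕ := 2 ^ (Nat.card (centralizer ({x} : Set G))).factorization 2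

theorem card_dvd_tw {x : G} {U : Subgroup G} (hU : IsPGroup 2 U) (hUx : U ≤ centralizer ({x} : Set G)) :
    Nat.card U ∣ tw x := by
  haveI := Fact.mk Nat.prime_two
  obtain ⟨n, hn⟩ := IsPGroup.iff_card.1 hU
  rw [hn]
  refine pow_dvd_pow 2 ((Nat.prime_two.pow_dvd_iff_le_factorization Nat.card_pos.ne').1 ?_)
  exact hn ▸ card_dvd_of_le hUx

theorem exists_two_sylow (S : Sylow 2 G) {x u : G} (hu : u ^ 2 = 1) (hc : Commute u x) :
    ∃ T : Subgroup G, IsPGroup 2 T ∧ Nat.card T = tw x ∧ T ≤ centralizer ({x} : Set G) ∧ u ∈ T := by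
  haveI := Fact.mk Nat.prime_two
  have huC : u ∈ centralizer ({x} : Set G) := mem_centralizer_sg.2 hc.eq.symm
  obtain ⟨T, hT⟩ := (show IsPGroup 2 (zpowers (⟨u, huC⟩ : centralizer ({x} : Set G))) by
    intro z
    obtain ⟨k, hk⟩ := mem_zpowers_iff.1 z.2
    refine ⟨1, Subtype.ext ?_⟩
    rw [SubmonoidClass.coe_pow, ← hk, pow_one, ← zpow_natCast, ← zpow_mul, mul_comm, zpow_mul,
      zpow_natCast, show (⟨u, huC⟩ : centralizer ({x} : Set G)) ^ 2 = 1 from Subtype.ext hu,
      one_zpow]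
    rfl).exists_le_sylow
  refine ⟨(T : Subgroup _).map (Subgroup.subtype _), T.2.map _, ?_, map_subtype_le _,
    ⟨⟨u, huC⟩, hT (mem_zpowers _), rfl⟩⟩
  rw [card_map_of_injective (Subgroup.subtype_injective _), T.card_eq_multiplicity]
  rfl

theorem exists_sylow_of_le_two {T : Subgroup G} (hT : IsPGroup 2 T) :
    ∃ R : Sylow 2 G, T ≤ (R : Subgroup G) := by
  haveI := Fact.mk Nat.prime_two
  exact hT.exists_le_sylow

theorem tw_le_card (S : Sylow 2 G) (x : G) : tw x ≤ Nat.card (S : Subgroup G) := by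
  haveI := Fact.mk Nat.prime_two
  rw [S.card_eq_multiplicity]
  refine Nat.pow_le_pow_right two_pos ?_
  exact (Nat.factorization_le_iff_dvd Nat.card_pos.ne' Nat.card_pos.ne').2
    (card_subgroup_dvd_card _) 2

theorem conj_mem_sylow_smul {r : ℕ} {H : Type*} [Group H] (g : H) (P : Sylow r H) {w : H}
    (hw : w ∈ (P : Subgroup H)) : g * w * g⁻¹ ∈ ((g • P : Sylow r H) : Subgroup H) := by
  rw [Sylow.smul_def]
  exact ⟨w, hw, rfl⟩

theorem exists_of_mem_sylow_smul {r : ℕ} {H : Type*} [Group H] (g : H) (P : Sylow r H) {x : H}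
    (hx : x ∈ ((g • P : Sylow r H) : Subgroup H)) : ∃ w ∈ (P : Subgroup H), g * w * g⁻¹ = x := by
  rw [Sylow.smul_def] at hx
  obtain ⟨w, hw, e⟩ := hx
  exact ⟨w, hw, e⟩

variable {p q : ℕ} (h : Orbit5 G p q)
include h

theorem Orbit5.tw_eq {x y : G} (hx : orderOf x = p) (hy : orderOf y = p) : tw x = tw y := by
  obtain ⟨φ, rfl⟩ := h.aut x y (hx.trans hy.symm)
  rw [tw, tw, card_centralizer_aut]

theorem Orbit5.card_cent_eq {u v : G} (hu : orderOf u = 2) (hv : orderOf v = 2) :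
    Nat.card (centralizer ({u} : Set G)) = Nat.card (centralizer ({v} : Set G)) := by
  obtain ⟨φ, rfl⟩ := h.aut u v (hu.trans hv.symm)
  rw [card_centralizer_aut]

theorem Orbit5.two_le_tw {x : G} (hx : orderOf x = p) : 2 ≤ tw x := by
  obtain ⟨u, hu, hc⟩ := h.exists_commuting_involution hx
  obtain ⟨T, hT, hcard, -, huT⟩ := exists_two_sylow
    (Classical.arbitrary (Sylow 2 G)) (by rw [← hu]; exact pow_orderOf_eq_one u) hc
  rw [← hcard]
  have h1 : Nat.card (zpowers u) = 2 := by rw [Nat.card_zpowers, hu]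
  rw [← h1]
  exact card_le_of_le (zpowers_le.2 huT)

/-- Elements of odd order commuting with an involution have order `p`. -/
theorem Orbit5.orderOf_of_odd {u c : G} (hu : orderOf u = 2) (hc : Commute u c)
    (hodd : Odd (orderOf c)) (hc1 : c ≠ 1) : orderOf c = p := by
  rcases h.orders c with o | o | o | o | o
  · exact absurd (orderOf_eq_one_iff.1 o) hc1
  · rw [o] at hodd; exact absurd hodd (by decide)
  · exact o
  · exact (h.not_mul hc.symm o (Or.inl hu)).elim
  · rw [o] at hodd; exact absurd hodd (by rw [Nat.not_odd_iff_even]; exact even_two_mul p)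

/-- Every prime divisor of the order of an involution centraliser is `2` or `p`. -/
theorem Orbit5.cent_primes {u : G} (hu : orderOf u = 2) {r : ℕ} (hr : r.Prime)
    (hd : r ∣ Nat.card (centralizer ({u} : Set G))) : r = 2 ∨ r = p := by
  rcases h.prime_cases hr hd with e | e | e
  · exact Or.inl e
  · exact Or.inr e
  · exfalso
    subst e
    haveI := Fact.mk hr
    obtain ⟨y, hy⟩ := exists_prime_orderOf_dvd_card' r hd
    rw [← Subgroup.orderOf_coe] at hy
    exact h.not_mul (show Commute (y : G) u from (mem_centralizer_sg.1 y.2).symm) hy (Or.inl hu)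

variable (S : Sylow 2 G)

theorem Orbit5.sylow_sub {u : G} (hu : u ∈ (S : Subgroup G)) :
    ∃ S' : Sylow 2 (centralizer ({u} : Set G)),
      (S' : Subgroup (centralizer ({u} : Set G))) = (S : Subgroup G).subgroupOf _ :=
  ⟨S.subtype (h.sylow_le_centralizer S hu), rfl⟩

/-- If elements of order `p` centralise a full Sylow `2`-subgroup then involution centralisers
centralise every Sylow `2`-subgroup through the involution. -/
theorem Orbit5.cent_le_of_full {x : G} (hx : orderOf x = p)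
    (hfull : tw x = Nat.card (S : Subgroup G)) {u : G} (hu : u ∈ (S : Subgroup G)) (hu1 : u ≠ 1) :
    centralizer ({u} : Set G) ≤ centralizer ((S : Subgroup G) : Set G) := by
  classical
  haveI := Fact.mk Nat.prime_two
  haveI := Fact.mk h.hp
  have hu2 := h.orderOf_eq_two S hu hu1
  set C := centralizer ({u} : Set G) with hC
  have hSC : (S : Subgroup G) ≤ C := h.sylow_le_centralizer S hu
  obtain ⟨S', hS'⟩ := h.sylow_sub S hu
  obtain ⟨P⟩ : Nonempty (Sylow p C) := inferInstance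
  have hcardC := card_eq_mul_pow h.hp h.p2 (H := C) fun r hr hd => h.cent_primes hu2 hr hd
  have hcop : (Nat.card (P : Subgroup C)).Coprime (Nat.card (S' : Subgroup C)) := by
    rw [P.card_eq_multiplicity, S'.card_eq_multiplicity]
    exact Nat.Coprime.pow _ _ ((Nat.coprime_primes h.hp Nat.prime_two).2 h.p2)
  have hcompl : IsComplement' (P : Subgroup C) (S' : Subgroup C) := isComplement'_of_coprime (by
    rw [P.card_eq_multiplicity, S'.card_eq_multiplicity]
    conv_rhs => rw [hcardC]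
    rw [mul_comm]) hcop
  have hdec : ∀ c : C, ∃ a ∈ (P : Subgroup C), ∃ s ∈ (S' : Subgroup C), c = a * s := fun c => by
    obtain ⟨⟨a, s⟩, hc⟩ := hcompl.2 c
    exact ⟨a, a.2, s, s.2, hc.symm⟩
  set P1 : Subgroup (P : Subgroup C) :=
    (centralizer ((S : Subgroup G) : Set G)).comap (C.subtype.comp (P : Subgroup C).subtype)
  suffices hP1 : P1 = ⊤ by
    intro c hc
    obtain ⟨a, ha, s, hs, he⟩ := hdec ⟨c, hc⟩
    have e : c = (a : G) * (s : G) := congrArg Subtype.val he
    rw [e]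
    refine mul_mem (show ((⟨a, ha⟩ : (P : Subgroup C)) : C).1 ∈ _ from ?_) ?_
    · have : (⟨a, ha⟩ : (P : Subgroup C)) ∈ P1 := hP1 ▸ mem_top _
      exact this
    · rw [hS'] at hs
      exact mem_centralizer_iff_comm.2 fun z hz => h.sylow_comm S z hz _ hs
  by_contra hP1
  obtain ⟨M, hM, hle⟩ := (eq_top_or_exists_le_coatom P1).resolve_left hP1
  haveI hnil : Group.IsNilpotent (P : Subgroup C) := P.2.isNilpotent
  haveI hMn : M.Normal :=
    (Group.normalizerCondition_of_isNilpotent (G := (P : Subgroup C))).normal_of_coatom M hM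
  refine hM.1 (eq_top_iff.2 fun y _ => ?_)
  by_cases hy1 : y = 1
  · rw [hy1]; exact one_mem M
  set y' : G := ((y : C) : G) with hy'
  have hycomm : Commute u y' := mem_centralizer_sg.1 (y : C).2
  have hy'1 : y' ≠ 1 := fun e => hy1 (Subtype.ext (Subtype.ext e))
  have hyp : orderOf y' = p := by
    refine h.orderOf_of_odd hu2 hycomm ?_ hy'1
    obtain ⟨k, hk⟩ := IsPGroup.iff_orderOf.1 P.2 y
    rw [hy', Subgroup.orderOf_coe, Subgroup.orderOf_coe, hk]
    exact h.odd_p.pow
  obtain ⟨T, hT, hTc, hTy, huT⟩ := exists_two_sylow S (h.sylow_sq S u hu) hycomm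
  rw [h.tw_eq hyp hx, hfull] at hTc
  obtain ⟨R, hR⟩ := exists_sylow_of_le_two hT
  have hRT : T = (R : Subgroup G) := eq_of_le_of_card_ge hR (by
    rw [hTc, R.card_eq_multiplicity, S.card_eq_multiplicity])
  have hRC : (R : Subgroup G) ≤ C := h.sylow_le_centralizer R (hR huT)
  set R' : Sylow 2 C := R.subtype hRC
  obtain ⟨c, hc⟩ := MulAction.exists_smul_eq C S' R'
  obtain ⟨a, ha, s, hs, rfl⟩ := hdec c
  -- `a S a⁻¹` is centralised by `y`
  have hconj : ∀ z ∈ (S : Subgroup G), Commute ((a : G) * z * (a : G)⁻¹) y' := by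
    intro z hz
    have hz' : (⟨z, hSC hz⟩ : C) ∈ (S' : Subgroup C) := by rw [hS']; exact hz
    have hsz : (s : G) * z * (s : G)⁻¹ = z := by
      rw [h.sylow_comm S _ (by rw [hS'] at hs; exact hs) z hz, mul_inv_cancel_right]
    have hmem : (a * s) * ⟨z, hSC hz⟩ * (a * s)⁻¹ ∈ ((a * s) • S' : Sylow 2 C) := by
      rw [Sylow.smul_def]
      exact ⟨⟨z, hSC hz⟩, hz', rfl⟩
    rw [hc] at hmem
    have hmem' : (a : G) * (s : G) * z * ((a : G) * (s : G))⁻¹ ∈ T := by
      rw [hRT]; exact hmem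
    have e : (a : G) * (s : G) * z * ((a : G) * (s : G))⁻¹ = (a : G) * z * (a : G)⁻¹ := by
      calc _ = (a : G) * ((s : G) * z * (s : G)⁻¹) * (a : G)⁻¹ := by group
        _ = _ := by rw [hsz]
    rw [e] at hmem'
    exact (mem_centralizer_sg.1 (hTy hmem')).symm
  have hmemP1 : (⟨a, ha⟩ : (P : Subgroup C))⁻¹ * y * ⟨a, ha⟩ ∈ P1 := by
    refine mem_centralizer_iff_comm.2 fun z hz => ?_
    show z * ((a : G)⁻¹ * y' * a) = (a : G)⁻¹ * y' * a * z
    calc z * ((a : G)⁻¹ * y' * a) = (a : G)⁻¹ * (((a : G) * z * (a : G)⁻¹) * y') * a := by group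
      _ = (a : G)⁻¹ * (y' * ((a : G) * z * (a : G)⁻¹)) * a := by rw [(hconj z hz).eq]
      _ = (a : G)⁻¹ * y' * a * z := by group
  have := hMn.conj_mem _ (hle hmemP1) ⟨a, ha⟩
  simpa [mul_assoc] using this

/-- The shape of an involution centraliser when `C(S) = S`. -/
theorem Orbit5.cent_shape (hCS : centralizer ((S : Subgroup G) : Set G) ≤ (S : Subgroup G))
    {u : G} (hu : u ∈ (S : Subgroup G)) (hu1 : u ≠ 1) :
    ∃ K : Subgroup G, K ≤ centralizer ({u} : Set G) ∧ centralizer ({u} : Set G) ≤ normalizer (K : Set G) ∧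
      Odd (Nat.card K) ∧
      (∀ c ∈ centralizer ({u} : Set G), ∃ a ∈ K, ∃ m ∈ centralizer ({u} : Set G) ⊓
        normalizer ((S : Subgroup G) : Set G), c = a * m) ∧
      (∀ T : Subgroup G, IsPGroup 2 T → T ≤ centralizer ({u} : Set G) →
        ∀ τ ∈ T, ∃ a ∈ K, ∃ s ∈ (S : Subgroup G), τ = a * s) := by
  classical
  haveI := Fact.mk Nat.prime_two
  have hu2 := h.orderOf_eq_two S hu hu1
  set C := centralizer ({u} : Set G) with hC
  obtain ⟨S', hS'⟩ := h.sylow_sub S hu
  haveI : Group.IsSolvable C :=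
    S0144.result 2 p _ _ Nat.prime_two h.hp
      (card_eq_mul_pow h.hp h.p2 (H := C) fun r hr hd => h.cent_primes hu2 hr hd)
  have hS'c : IsMulCommutative (S' : Subgroup C) := by
    refine ⟨⟨fun a b => Subtype.ext (Subtype.ext ?_)⟩⟩
    refine h.sylow_comm S _ ?_ _ ?_
    · exact (SetLike.ext_iff.1 hS' _).1 a.2
    · exact (SetLike.ext_iff.1 hS' _).1 b.2
  have hn := S0018.result 2 S' hS'c
  set K0 := Cfsg.pPrimeCore 2 C
  haveI hK0n : K0.Normal := Thompson.instPPrimeCoreNormal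
  have hK0c : (Nat.card K0).Coprime 2 := Thompson.card_pPrimeCore_coprime
  haveI := hn
  have hdecKS : ∀ z ∈ (S' : Subgroup C) ⊔ K0, ∃ a ∈ K0, ∃ s ∈ (S' : Subgroup C), z = a * s := by
    intro z hz
    have hz' : z ∈ ((K0 ⊔ (S' : Subgroup C) : Subgroup C) : Set C) := by rwa [sup_comm] at hz
    rw [Subgroup.normal_mul] at hz'
    obtain ⟨a, ha, s, hs, rfl⟩ := hz'
    exact ⟨a, ha, s, hs, rfl⟩
  have hcop : K0.map C.subtype ≤ C := map_subtype_le K0
  refine ⟨K0.map C.subtype, hcop, ?_, ?_, ?_, ?_⟩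
  · refine Coprime.le_normalizer_of_conj_mem fun c hc z hz => ?_
    obtain ⟨w, hw, rfl⟩ := hz
    exact ⟨⟨c, hc⟩ * w * ⟨c, hc⟩⁻¹, hK0n.conj_mem w hw _, by simp⟩
  · rw [card_map_of_injective (Subgroup.subtype_injective _)]
    exact Nat.coprime_two_right.1 hK0c
  · intro c hc
    -- a conjugate of `S'` inside `S' ⊔ K0`
    set N := (S' : Subgroup C) ⊔ K0 with hN
    have hS'N : (S' : Subgroup C) ≤ N := le_sup_left
    have hle : (((⟨c, hc⟩ : C) • S' : Sylow 2 C) : Subgroup C) ≤ N := by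
      intro x hx
      obtain ⟨w, hw, rfl⟩ := exists_of_mem_sylow_smul _ _ hx
      exact hn.conj_mem w (hS'N hw) _
    obtain ⟨g, hg⟩ := MulAction.exists_smul_eq N (S'.subtype hS'N)
      (((⟨c, hc⟩ : C) • S').subtype hle)
    obtain ⟨a, ha, s, hs, hgas⟩ := hdecKS g g.2
    refine ⟨(a : G), ⟨a, ha, rfl⟩, (a : G)⁻¹ * c, ⟨C.mul_mem (C.inv_mem a.2) hc, ?_⟩, by group⟩
    have hfix : ∀ w ∈ (S' : Subgroup C), a⁻¹ * (⟨c, hc⟩ * w * (⟨c, hc⟩ : C)⁻¹) * a ∈ (S' : Subgroup C) := by
      intro w hw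
      have hmem : (⟨_, hle (conj_mem_sylow_smul _ _ hw)⟩ : N) ∈
          (g • (S'.subtype hS'N) : Sylow 2 N) := by
        rw [hg]
        exact conj_mem_sylow_smul _ _ hw
      obtain ⟨v, hv, hve⟩ := exists_of_mem_sylow_smul _ _ hmem
      have hve' : (g : C) * (v : C) * (g : C)⁻¹ = ⟨c, hc⟩ * w * (⟨c, hc⟩ : C)⁻¹ :=
        congrArg Subtype.val hve
      have hsv : s * (v : C) * s⁻¹ ∈ (S' : Subgroup C) := mul_mem (mul_mem hs hv) (inv_mem hs)
      rw [← hve', hgas]
      simpa [mul_assoc] using hsv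
    have key : ∀ z ∈ (S : Subgroup G), (a : G)⁻¹ * c * z * ((a : G)⁻¹ * c)⁻¹ ∈ (S : Subgroup G) := by
      intro z hz
      have hzC : z ∈ C := h.sylow_le_centralizer S hu hz
      have := hfix ⟨z, hzC⟩ (by rw [hS']; exact hz)
      rw [hS'] at this
      have this' : (a : G)⁻¹ * (c * z * c⁻¹) * a ∈ (S : Subgroup G) := this
      simpa [mul_assoc] using this'
    exact mem_normalizer_fintype key
  · intro T hT hTC τ hτ
    have hN : (S' : Subgroup C) ≤ (S' : Subgroup C) ⊔ K0 := le_sup_left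
    -- every element of `2`-power order lies in the normal subgroup containing a Sylow subgroup
    obtain ⟨R, hR⟩ := (hT.comap_of_injective C.subtype (Subgroup.subtype_injective C)).exists_le_sylow
    obtain ⟨g, rfl⟩ := MulAction.exists_smul_eq C S' R
    have hmem : (⟨τ, hTC hτ⟩ : C) ∈ (S' : Subgroup C) ⊔ K0 := by
      have := hR (show (⟨τ, hTC hτ⟩ : C) ∈ T.comap C.subtype from hτ)
      rw [Sylow.smul_def] at this
      obtain ⟨w, hw, e⟩ := this
      rw [← e]
      exact hn.conj_mem w (hN hw) g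
    obtain ⟨a, ha, s, hs, e⟩ := hdecKS _ hmem
    rw [hS'] at hs
    exact ⟨a, ⟨a, ha, rfl⟩, s, hs, congrArg Subtype.val e⟩

end Cfsg.Agent.AutOrbit69
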