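import Cfsg.Agent.AutOrbit69.SemiCase
import Cfsg.Agent.S0015
import Cfsg.Agent.PF14.Compose
import Mathlib.GroupTheory.SchurZassenhaus

/-!
The normaliser of a Sylow `2`-subgroup with nontrivial stabilisers: the complement is Frobenius of order `pq`.
-/

set_option autoImplicit false
set_option linter.style.haveILetI false
set_option linter.unusedSectionVars false

namespace Cfsg.Agent.AutOrbit69

open Subgroup

variable {G : Type*} [Group G] [Finite G] {p q : ℕ} (h : Orbit5 G p q) (S : Sylow 2 G)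
include h

theorem Orbit5.exists_p_of_mem_normalizer {u n : G} (hu : u ∈ (S : Subgroup G)) (hu1 : u ≠ 1)
    (hn : n ∈ normalizer ((S : Subgroup G) : Set G)) (hnu : n ∈ centralizer ({u} : Set G))
    (hnS : n ∉ centralizer ((S : Subgroup G) : Set G)) :
    ∃ z : G, orderOf z = p ∧ z ∈ normalizer ((S : Subgroup G) : Set G) ∧
      z ∈ centralizer ({u} : Set G) := by
  haveI := Fact.mk Nat.prime_two
  have htwo : ∀ m : G, orderOf m = 2 → m ∈ normalizer ((S : Subgroup G) : Set G) →
      m ∈ (S : Subgroup G) := by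
    intro m hm hmn
    have hp2 : IsPGroup 2 (zpowers m) :=
      IsPGroup.of_card (n := 1) (by rw [Nat.card_zpowers, hm, pow_one])
    have hsup : IsPGroup 2 (zpowers m ⊔ (S : Subgroup G) : Subgroup G) :=
      IsPGroup.to_sup_of_normal_right' hp2 S.2 (zpowers_le.2 hmn)
    rw [← S.3 hsup le_sup_right]
    exact mem_sup_left (mem_zpowers m)
  rcases h.orders n with o | o | o | o | o
  · exact absurd (orderOf_eq_one_iff.1 o ▸ one_mem _) hnS
  · exact absurd (h.sylow_le_cent S (htwo n o hn)) hnS
  · exact ⟨n, o, hn, hnu⟩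
  · exact (h.not_mul (show Commute n u from (mem_centralizer_sg.1 hnu).symm) o
      (Or.inl (h.orderOf_eq_two S hu hu1))).elim
  · refine ⟨n ^ 2, ?_, pow_mem hn 2, pow_mem hnu 2⟩
    rw [orderOf_pow, o, Nat.gcd_mul_right_left, Nat.mul_div_cancel_left _ two_pos]

theorem Orbit5.not_commute_sylow (hCS : centralizer ((S : Subgroup G) : Set G) ≤ (S : Subgroup G))
    {z : G} (hz : orderOf z = p) : z ∉ centralizer ((S : Subgroup G) : Set G) := fun hc => by
  have := orderOf_dvd_of_pow_eq_one (h.sylow_sq S z (hCS hc))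
  rw [hz] at this
  exact h.p2 ((Nat.prime_dvd_prime_iff_eq h.hp Nat.prime_two).1 this)

/-- The fixed points in `S` of an element of order `p` normalising `S`. -/
theorem Orbit5.fix_card (hCS : centralizer ((S : Subgroup G) : Set G) ≤ (S : Subgroup G))
    {z : G} (hz : orderOf z = p) (hzN : z ∈ normalizer ((S : Subgroup G) : Set G)) {w : G}
    (hw : w ∈ (S : Subgroup G)) (hw1 : w ≠ 1) (hzw : z ∈ centralizer ({w} : Set G)) :
    Nat.card ((S : Subgroup G) ⊓ centralizer ({z} : Set G) : Subgroup G) = tw z ∧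
      4 * tw z ≤ Nat.card (S : Subgroup G) := by
  classical
  haveI := Fact.mk Nat.prime_two
  set U : Subgroup G := (S : Subgroup G) ⊓ centralizer ({z} : Set G) with hU
  have hle : Nat.card U ≤ tw z :=
    Nat.le_of_dvd (Nat.two_pow_pos _) (card_dvd_tw (S.2.to_le inf_le_left) inf_le_right)
  have hge : tw z ≤ Nat.card U := by
    obtain ⟨K, -, hKn, hKodd, -, hdecT⟩ := h.cent_shape S hCS hw hw1
    obtain ⟨T, hT, hTc, hTz, hwT⟩ := exists_two_sylow S (h.sylow_sq S w hw)
      (show Commute w z from mem_centralizer_sg.1 hzw)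
    obtain ⟨R, hR⟩ := exists_sylow_of_le_two hT
    have hTw : T ≤ centralizer ({w} : Set G) := hR.trans (h.sylow_le_centralizer R (hR hwT))
    have hdec := hdecT T hT hTw
    choose a ha s hs he using fun τ : T => hdec τ τ.2
    have hdis : Disjoint K (S : Subgroup G) := by
      obtain ⟨n, hn⟩ := IsPGroup.iff_card.1 S.2
      refine disjoint_of_coprime_natCard ?_
      rw [hn]
      exact Nat.Coprime.pow_right _ (Nat.coprime_two_right.2 hKodd)
    have hsU : ∀ τ : T, s τ ∈ U := by
      intro τ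
      refine ⟨hs τ, mem_centralizer_sg.2 ?_⟩
      have hτ : z * (τ : G) = (τ : G) * z := mem_centralizer_sg.1 (hTz τ.2)
      have e : (z * a τ * z⁻¹) * (z * s τ * z⁻¹) = a τ * s τ := by
        calc (z * a τ * z⁻¹) * (z * s τ * z⁻¹) = z * (a τ * s τ) * z⁻¹ := by group
          _ = a τ * s τ := by rw [← he τ, hτ, mul_inv_cancel_right]
      have h1 : z * a τ * z⁻¹ ∈ K := Coprime.conj_mem_of_mem_normalizer (hKn hzw) (ha τ)
      have h2 : z * s τ * z⁻¹ ∈ (S : Subgroup G) := Coprime.conj_mem_of_mem_normalizer hzN (hs τ)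
      have := mul_injective_of_disjoint hdis
        (a₁ := (⟨_, h1⟩, ⟨_, h2⟩)) (a₂ := (⟨a τ, ha τ⟩, ⟨s τ, hs τ⟩)) e
      have e2 : z * s τ * z⁻¹ = s τ := congrArg (fun x => (x.2 : G)) this
      exact mul_inv_eq_iff_eq_mul.1 e2
    rw [← hTc]
    refine Nat.card_le_card_of_injective (fun τ : T => (⟨s τ, hsU τ⟩ : U)) fun τ τ' e => ?_
    have e' : s τ = s τ' := congrArg Subtype.val e
    have hK : (τ : G) * (τ' : G)⁻¹ ∈ K := by
      rw [he τ, he τ', e', _root_.mul_inv_rev, ← mul_assoc, mul_assoc (a τ), mul_inv_cancel, mul_one]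
      exact mul_mem (ha τ) (inv_mem (ha τ'))
    have hdT : Disjoint K T := by
      obtain ⟨n, hn⟩ := IsPGroup.iff_card.1 hT
      refine disjoint_of_coprime_natCard ?_
      rw [hn]
      exact Nat.Coprime.pow_right _ (Nat.coprime_two_right.2 hKodd)
    exact Subtype.ext (mul_inv_eq_one.1
      (Subgroup.disjoint_def.1 hdT hK (mul_mem τ.2 (inv_mem τ'.2))))
  refine ⟨le_antisymm hle hge, ?_⟩
  -- `z` cannot centralise a subgroup of index at most two
  have hdvd := card_dvd_of_le (inf_le_left : U ≤ (S : Subgroup G))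
  obtain ⟨j, hj⟩ := hdvd
  have hUcard : Nat.card U = tw z := le_antisymm hle hge
  rw [← hUcard]
  rcases Nat.lt_or_ge j 3 with hj3 | hj3
  swap
  · rcases Nat.lt_or_ge j 4 with hj4 | hj4
    · exfalso
      obtain ⟨n, hn⟩ := IsPGroup.iff_card.1 S.2
      have : 3 ∣ 2 ^ n := ⟨Nat.card U, by rw [← hn, hj]; interval_cases j; ring⟩
      exact absurd ((Nat.prime_dvd_prime_iff_eq Nat.prime_three Nat.prime_two).1
        (Nat.prime_three.dvd_of_dvd_pow this)) (by norm_num)
    · rw [hj, mul_comm]
      exact Nat.mul_le_mul le_rfl hj4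
  exfalso
  refine h.not_commute_sylow S hCS hz (mem_centralizer_iff_comm.2 fun s hs => ?_)
  by_cases hsU : s ∈ U
  · exact (mem_centralizer_sg.1 hsU.2).symm
  -- the commutator lies in `U`
  have hindex : (U.subgroupOf (S : Subgroup G)).index = j := by
    have h1 : Nat.card (U.subgroupOf (S : Subgroup G)) * (U.subgroupOf (S : Subgroup G)).index =
        Nat.card (S : Subgroup G) := card_mul_index _
    rw [Nat.card_congr (subgroupOfEquivOfLe (inf_le_left : U ≤ (S : Subgroup G))).toEquiv, hj] at h1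
    exact Nat.eq_of_mul_eq_mul_left Nat.card_pos h1
  have hmove : z * s * z⁻¹ * s ∈ U := by
    have h2 : z * s * z⁻¹ ∈ (S : Subgroup G) := Coprime.conj_mem_of_mem_normalizer hzN hs
    have h3 : z * s * z⁻¹ ∉ U := fun hm => hsU ⟨hs, mem_centralizer_sg.2 ?_⟩
    · have hj2 : j = 2 := by
        rcases j with _ | _ | j
        · rw [mul_zero] at hj
          exact absurd hj Nat.card_pos.ne'
        · exfalso
          have : U = (S : Subgroup G) := eq_of_le_of_card_ge inf_le_left (le_of_eq (hj.trans (mul_one _)))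
          exact hsU (this ▸ hs)
        · omega
      have := (Subgroup.mul_mem_iff_of_index_two (hindex.trans hj2)
        (a := ⟨z * s * z⁻¹, h2⟩) (b := ⟨s, hs⟩)).2
        ⟨fun hm => absurd hm h3, fun hm => absurd hm hsU⟩
      exact this
    · have := mem_centralizer_sg.1 hm.2
      calc z * s = (z * s * z⁻¹) * z := by group
        _ = z⁻¹ * (z * (z * s * z⁻¹)) * z := by group
        _ = z⁻¹ * ((z * s * z⁻¹) * z) * z := by rw [this]
        _ = s * z := by group
  set v := z * s * z⁻¹ * s with hv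
  have hs2 : s * s = 1 := by rw [← sq]; exact h.sylow_sq S s hs
  have hvz : z * v = v * z := mem_centralizer_sg.1 hmove.2
  have hconj : z * s * z⁻¹ = v * s := by rw [hv, mul_assoc _ s s, hs2, mul_one]
  have hiter : ∀ i : ℕ, z ^ i * s * (z ^ i)⁻¹ = v ^ i * s := by
    intro i
    induction i with
    | zero => simp
    | succ i ih =>
      calc z ^ (i + 1) * s * (z ^ (i + 1))⁻¹ = z * (z ^ i * s * (z ^ i)⁻¹) * z⁻¹ := by
            rw [pow_succ']; group
        _ = z * (v ^ i * s) * z⁻¹ := by rw [ih]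
        _ = (z * v ^ i * z⁻¹) * (z * s * z⁻¹) := by group
        _ = v ^ i * (v * s) := by
            rw [hconj, ((show Commute z v from hvz).pow_right i).eq, mul_inv_cancel_right]
        _ = v ^ (i + 1) * s := by rw [pow_succ]; group
  have hp' := hiter p
  rw [← hz, pow_orderOf_eq_one, hz, one_mul, inv_one, mul_one,
    pow_eq_self_of_odd (h.sylow_sq S v hmove.1) h.odd_p] at hp'
  have hv1 : v = 1 := by
    calc v = v * s * s⁻¹ := by group
      _ = s * s⁻¹ := by rw [← hp']
      _ = 1 := by group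
  rw [hv1, one_mul] at hconj
  exact (mul_inv_eq_iff_eq_mul.1 hconj).symm

omit h in
/-- Data of the Frobenius case. -/
structure FrobData (T : Sylow 2 G) (p' q' : ℕ) (H A : Subgroup G) (t : ℕ) : Prop where
  CS : centralizer ((T : Subgroup G) : Set G) ≤ (T : Subgroup G)
  cent : ∀ u ∈ (T : Subgroup G), u ≠ 1 →
    centralizer ({u} : Set G) ≤ normalizer ((T : Subgroup G) : Set G)
  norm : H ≤ normalizer ((T : Subgroup G) : Set G)
  dec : ∀ n ∈ normalizer ((T : Subgroup G) : Set G), ∃ s ∈ (T : Subgroup G), ∃ a ∈ H, n = s * a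
  cardH : Nat.card H = p' * q'
  Asub : A ≤ H
  cardA : Nat.card A = q'
  Anorm : H ≤ normalizer (A : Set G)
  stab : ∀ u ∈ (T : Subgroup G), u ≠ 1 → Nat.card (H ⊓ centralizer ({u} : Set G) : Subgroup G) = p'
  fixed : ∀ z ∈ H, orderOf z = p' →
    Nat.card ((T : Subgroup G) ⊓ centralizer ({z} : Set G) : Subgroup G) = t

/-- A conjugation fixing a cyclic group of order `p` elementwise. -/
theorem Orbit5.commute_of_normalize {M : Subgroup G} (hM : Nat.card M = p) {z : G}
    (hz : orderOf z ∣ p) (hzM : z ∈ normalizer (M : Set G)) : z ∈ centralizer (M : Set G) := by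
  haveI := Fact.mk h.hp
  rw [mem_centralizer_iff_comm]
  intro a ha
  by_cases ha1 : a = 1
  · simp [ha1]
  have hao : orderOf a = p := by
    have := orderOf_dvd_natCard (⟨a, ha⟩ : M)
    rw [hM, Subgroup.orderOf_mk] at this
    exact ((Nat.dvd_prime h.hp).1 this).resolve_left fun e => ha1 (orderOf_eq_one_iff.1 e)
  have hgen : zpowers a = M := eq_of_le_of_card_ge (zpowers_le.2 ha) (by rw [Nat.card_zpowers, hao, hM])
  have hmem : z * a * z⁻¹ ∈ zpowers a := by
    rw [hgen]; exact Coprime.conj_mem_of_mem_normalizer hzM ha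
  obtain ⟨j, hj⟩ := Submonoid.mem_powers_iff _ _ |>.1
    ((isOfFinOrder_of_finite a).mem_powers_iff_mem_zpowers.2 hmem)
  have hiter : ∀ i : ℕ, z ^ i * a * (z ^ i)⁻¹ = a ^ (j ^ i) := by
    intro i
    induction i with
    | zero => simp
    | succ i ih =>
      calc z ^ (i + 1) * a * (z ^ (i + 1))⁻¹ = z * (z ^ i * a * (z ^ i)⁻¹) * z⁻¹ := by
            rw [pow_succ']; group
        _ = (z * a * z⁻¹) ^ (j ^ i) := by rw [ih]; exact (map_pow (MulAut.conj z) a _).trans (by simp)
        _ = a ^ (j ^ (i + 1)) := by rw [← hj, ← pow_mul, pow_succ']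
  have hp' := hiter p
  rw [orderOf_dvd_iff_pow_eq_one.1 hz, one_mul, inv_one, mul_one] at hp'
  have h1 : (j : ZMod p) = 1 := by
    have : a ^ 1 = a ^ (j ^ p) := by rw [pow_one]; exact hp'
    rw [pow_eq_pow_iff_modEq, hao, ← ZMod.natCast_eq_natCast_iff] at this
    rwa [Nat.cast_pow, ZMod.pow_card, Nat.cast_one, eq_comm] at this
  have h2 : a ^ j = a := by
    conv_rhs => rw [← pow_one a]
    rw [pow_eq_pow_iff_modEq, hao, ← ZMod.natCast_eq_natCast_iff]
    simpa using h1
  rw [h2] at hj
  exact (mul_inv_eq_iff_eq_mul.1 hj.symm).symm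

/-- The structure of the normaliser in the non-semiregular case. -/
theorem Orbit5.exists_frobData {x : G} (hx : orderOf x = p) [Fact p.Prime] [Fact q.Prime]
    {u0 n0 : G} (hu0 : u0 ∈ (S : Subgroup G)) (hu01 : u0 ≠ 1)
    (hn0 : n0 ∈ normalizer ((S : Subgroup G) : Set G)) (hn0u : n0 ∈ centralizer ({u0} : Set G))
    (hn0S : n0 ∉ centralizer ((S : Subgroup G) : Set G)) :
    ∃ H A : Subgroup G, FrobData S p q H A (tw x) ∧ 4 * tw x ≤ Nat.card (S : Subgroup G) := by
  classical
  haveI := h.simple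
  haveI := Fact.mk Nat.prime_two
  set N := normalizer ((S : Subgroup G) : Set G) with hN
  have hnf : tw x ≠ Nat.card (S : Subgroup G) := fun e =>
    hn0S (h.cent_le_of_full S hx e hu0 hu01 hn0u)
  have hCS := h.centralizer_le_of_not_full S hx hnf
  obtain ⟨z0, hz0, hz0N, hz0u⟩ := h.exists_p_of_mem_normalizer S hu0 hu01 hn0 hn0u hn0S
  obtain ⟨-, h4t⟩ := h.fix_card S hCS hz0 hz0N hu0 hu01 hz0u
  rw [h.tw_eq hz0 hx] at h4t
  have htpos : 0 < tw x := Nat.two_pow_pos _
  have hcentN : ∀ u ∈ (S : Subgroup G), u ≠ 1 → centralizer ({u} : Set G) ≤ N := by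
    intro u hu hu1 c hc
    obtain ⟨K, hK1, hK2, hK3, hK4, -⟩ := h.cent_shape S hCS hu hu1
    have hKb : K = ⊥ := by
      by_contra hne
      have := h.card_le_two_tw S hCS hx hu hu1 hK1 hK2 hK3 hne
      omega
    obtain ⟨a, ha, m, hm, e⟩ := hK4 c hc
    rw [hKb, mem_bot] at ha
    rw [e, ha, one_mul]; exact hm.2
  -- a complement of `S` in its normaliser
  set SN : Sylow 2 N := S.subtype le_normalizer with hSN
  haveI : (SN : Subgroup N).Normal :=
    (normal_subgroupOf_iff_le_normalizer (le_normalizer (H := (S : Subgroup G)))).2 le_rfl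
  obtain ⟨H0, hH0⟩ := exists_right_complement'_of_coprime SN.card_coprime_index
  set H := H0.map N.subtype with hHdef
  have hHN : H ≤ N := map_subtype_le _
  have hdec : ∀ n ∈ N, ∃ s ∈ (S : Subgroup G), ∃ a ∈ H, n = s * a := by
    intro n hn
    obtain ⟨⟨s, a⟩, e⟩ := hH0.2 ⟨n, hn⟩
    exact ⟨((s : N) : G), s.2, ((a : N) : G), ⟨a, a.2, rfl⟩, (congrArg Subtype.val e).symm⟩
  have hHodd : Odd (Nat.card H) := by
    rw [card_map_of_injective (Subgroup.subtype_injective _)]
    rw [← Nat.not_even_iff_odd, even_iff_two_dvd]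
    intro hd
    have := hd; rw [← hH0.symm.index_eq_card] at this
    exact SN.not_dvd_index this
  have hfaith : H ⊓ centralizer ((S : Subgroup G) : Set G) = ⊥ := by
    refine eq_bot_iff.2 fun z hz => ?_
    have hzS := hCS hz.2
    have h2 := orderOf_dvd_of_pow_eq_one (h.sylow_sq S z hzS)
    have h3 := Odd.of_dvd_nat hHodd (orderOf_dvd_natCard (⟨z, hz.1⟩ : H))
    rw [Subgroup.orderOf_mk] at h3
    rcases (Nat.dvd_prime Nat.prime_two).1 h2 with o | o
    · exact mem_bot.2 (orderOf_eq_one_iff.1 o)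
    · rw [o] at h3; exact absurd h3 (by decide)
  have hord : ∀ z ∈ H, z ≠ 1 → orderOf z = p ∨ orderOf z = q := by
    intro z hz hz1
    have h3 := Odd.of_dvd_nat hHodd (orderOf_dvd_natCard (⟨z, hz⟩ : H))
    rw [Subgroup.orderOf_mk] at h3
    rcases h.orders z with o | o | o | o | o
    · exact absurd (orderOf_eq_one_iff.1 o) hz1
    · rw [o] at h3; exact absurd h3 (by decide)
    · exact Or.inl o
    · exact Or.inr o
    · rw [o] at h3; exact absurd h3 (Nat.not_odd_iff_even.2 (even_two_mul p))
  have hstabp : ∀ u ∈ (S : Subgroup G), u ≠ 1 → ∀ z ∈ H, z ∈ centralizer ({u} : Set G) → z ≠ 1 →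
      orderOf z = p := by
    intro u hu hu1 z hz hzu hz1
    rcases hord z hz hz1 with o | o
    · exact o
    · exact (h.not_mul (show Commute z u from (mem_centralizer_sg.1 hzu).symm) o
        (Or.inl (h.orderOf_eq_two S hu hu1))).elim
  -- stabilisers have constant order
  have hcardC : ∀ u ∈ (S : Subgroup G), u ≠ 1 → Nat.card (centralizer ({u} : Set G)) =
      Nat.card (S : Subgroup G) * Nat.card (H ⊓ centralizer ({u} : Set G) : Subgroup G) := by
    intro u hu hu1
    rw [← Nat.card_prod]
    refine (Nat.card_congr (Equiv.ofBijective (fun w : ↥(S : Subgroup G) × ↥(H ⊓ centralizer ({u} : Set G)) =>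
      (⟨(w.1 : G) * w.2, mul_mem (h.sylow_le_centralizer S hu w.1.2) w.2.2.2⟩ :
        centralizer ({u} : Set G))) ⟨?_, ?_⟩)).symm
    · intro a b e
      have hdis : Disjoint (S : Subgroup G) (H ⊓ centralizer ({u} : Set G)) := by
        obtain ⟨n, hn⟩ := IsPGroup.iff_card.1 S.2
        refine disjoint_of_coprime_natCard ?_
        rw [hn]
        exact Nat.Coprime.pow_left _
          (Nat.coprime_two_left.2 (Odd.of_dvd_nat hHodd (card_dvd_of_le inf_le_left)))
      exact mul_injective_of_disjoint hdis (congrArg Subtype.val e)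
    · rintro ⟨c, hc⟩
      obtain ⟨s, hs, a, ha, e⟩ := hdec c (hcentN u hu hu1 hc)
      refine ⟨(⟨s, hs⟩, ⟨a, ha, ?_⟩), Subtype.ext e.symm⟩
      have : a = s⁻¹ * c := by rw [e]; group
      rw [this]
      exact Subgroup.mul_mem _ (Subgroup.inv_mem _ (h.sylow_le_centralizer S hu hs)) hc
  set c := Nat.card (H ⊓ centralizer ({u0} : Set G) : Subgroup G) with hcdef
  have hconst : ∀ u ∈ (S : Subgroup G), u ≠ 1 →
      Nat.card (H ⊓ centralizer ({u} : Set G) : Subgroup G) = c := by
    intro u hu hu1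
    have e := hcardC u hu hu1
    rw [h.card_cent_eq (h.orderOf_eq_two S hu hu1) (h.orderOf_eq_two S hu0 hu01), hcardC u0 hu0 hu01] at e
    exact (Nat.eq_of_mul_eq_mul_left Nat.card_pos e).symm
  have hc1 : 1 < c := by
    obtain ⟨s, hs, a, ha, e⟩ := hdec z0 hz0N
    have haC : a ∈ centralizer ({u0} : Set G) := by
      have : a = s⁻¹ * z0 := by rw [e]; group
      rw [this]
      exact mul_mem (inv_mem (h.sylow_le_centralizer S hu0 hs)) hz0u
    have ha1 : a ≠ 1 := fun e1 => by
      rw [e1, mul_one] at e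
      exact h.not_commute_sylow S hCS hz0 (e ▸ h.sylow_le_cent S hs)
    exact (one_lt_card_iff_ne_bot _).2 fun e1 => ha1 (by
      have : a ∈ H ⊓ centralizer ({u0} : Set G) := ⟨ha, haC⟩
      rwa [e1, mem_bot] at this)
  have hSc : IsMulCommutative (S : Subgroup G) :=
    ⟨⟨fun a b => Subtype.ext (h.sylow_comm S _ a.2 _ b.2)⟩⟩
  -- a nontrivial normal abelian subgroup of prime exponent
  haveI : Group.IsSolvable H := PF14.feitThompson H hHodd
  have hHne : (⊤ : Subgroup H) ≠ ⊥ := by
    intro e
    have : H ⊓ centralizer ({u0} : Set G) = ⊥ := eq_bot_iff.2 fun z hz => by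
      have hz' : (⟨z, hz.1⟩ : H) ∈ (⊥ : Subgroup H) := e ▸ mem_top _
      exact mem_bot.2 (congrArg Subtype.val (mem_bot.1 hz'))
    rw [hcdef, this, card_bot] at hc1
    omega
  obtain ⟨n, hn⟩ := (Group.isSolvable_def H).1 inferInstance
  have hex : ∃ m, derivedSeries H m = ⊥ := ⟨n, hn⟩
  obtain ⟨m, hm⟩ : ∃ m, Nat.find hex = m + 1 := by
    rcases Nat.find hex, Nat.find_spec hex with ⟨_ | m, hm⟩
    · exact absurd (by rw [← derivedSeries_zero]; exact hm) hHne
    · exact ⟨m, rfl⟩
  have hD : derivedSeries H m ≠ ⊥ := Nat.find_min hex (by omega)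
  have hDsucc : derivedSeries H (m + 1) = ⊥ := hm ▸ Nat.find_spec hex
  set A := (derivedSeries H m).map H.subtype with hAdef
  have hAH : A ≤ H := map_subtype_le _
  haveI hDn : (derivedSeries H m).Normal := derivedSeries_normal H m
  have hAn : H ≤ normalizer (A : Set G) := Coprime.le_normalizer_of_conj_mem fun a ha z hz => by
    obtain ⟨w, hw, rfl⟩ := hz
    exact ⟨⟨a, ha⟩ * w * ⟨a, ha⟩⁻¹, hDn.conj_mem w hw _, by simp⟩
  have hAab : ∀ a ∈ A, ∀ b ∈ A, a * b = b * a := by
    rintro _ ⟨a, ha, rfl⟩ _ ⟨b, hb, rfl⟩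
    rw [derivedSeries_succ, Subgroup.commutator_eq_bot_iff_le_centralizer] at hDsucc
    exact congrArg Subtype.val (mem_centralizer_iff.1 (hDsucc hb) a ha)
  have hAc : IsMulCommutative A := ⟨⟨fun a b => Subtype.ext (hAab _ a.2 _ b.2)⟩⟩
  have hAne : A ≠ ⊥ := by
    intro e
    exact hD ((Subgroup.map_eq_bot_iff_of_injective _ H.subtype_injective).1 e)
  obtain ⟨a0, ha0, ha01⟩ := (Subgroup.bot_or_exists_ne_one _).resolve_left hAne
  set r := orderOf a0 with hr
  have hrpq : r = p ∨ r = q := hord a0 (hAH ha0) ha01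
  have hrprime : r.Prime := by rcases hrpq with e | e <;> rw [e] <;> [exact h.hp; exact h.hq]
  have hexp : ∀ a ∈ A, a ^ r = 1 := by
    intro a ha
    by_cases ha1 : a = 1
    · rw [ha1, one_pow]
    suffices orderOf a = r by rw [← this]; exact pow_orderOf_eq_one a
    have hcm : Commute a a0 := hAab a ha a0 ha0
    rcases hrpq with e | e <;> rcases hord a (hAH ha) ha1 with o | o
    · rw [o, e]
    · exact (h.not_mul hcm o (Or.inr (hr.symm.trans e))).elim
    · exact (h.not_mul hcm.symm (hr.symm.trans e) (Or.inr o)).elim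
    · rw [o, e]
  have hHT : HalfTrans (S : Subgroup G) H A c r :=
    { comm := hSc, sq := h.sylow_sq S, norm := hHN, odd := hHodd, faith := hfaith, const := hconst,
      one_lt := hc1, Asub := hAH, Anorm := hAn, Acomm := hAc, prime := hrprime, exp := hexp,
      Ane := hAne }
  obtain ⟨hAcard, hAfpf⟩ := hHT.main
  rcases hrpq with e | e
  · -- `r = p` is impossible
    exfalso
    set Y := H ⊓ centralizer (A : Set G) with hY
    rw [e] at hAcard
    have hYp : ∀ z ∈ H, orderOf z = p → z ∈ Y := fun z hz o =>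
      ⟨hz, h.commute_of_normalize hAcard (o ▸ dvd_refl _) (hAn hz)⟩
    have hYord : ∀ z ∈ Y, z ≠ 1 → orderOf z = p := by
      intro z hz hz1
      rcases hord z hz.1 hz1 with o | o
      · exact o
      · exact (h.not_mul (show Commute z a0 from (mem_centralizer_iff_comm.1 hz.2 a0 ha0).symm) o
          (Or.inr (hr.symm.trans e))).elim
    have hstabY : ∀ u ∈ (S : Subgroup G), u ≠ 1 →
        Y ⊓ centralizer ({u} : Set G) = H ⊓ centralizer ({u} : Set G) := fun u hu hu1 =>
      le_antisymm (inf_le_inf_right _ inf_le_left) fun z hz => by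
        by_cases hz1 : z = 1
        · rw [hz1]; exact one_mem _
        exact ⟨hYp z hz.1 (hstabp u hu hu1 z hz.1 hz.2 hz1), hz.2⟩
    have hYp' : IsPGroup p Y := IsPGroup.iff_orderOf.2 fun z => by
      by_cases hz1 : (z : G) = 1
      · exact ⟨0, by rw [pow_zero, orderOf_eq_one_iff]; exact Subtype.ext hz1⟩
      · exact ⟨1, by rw [pow_one, ← Subgroup.orderOf_coe]; exact hYord z z.2 hz1⟩
    haveI : Group.IsNilpotent Y := hYp'.isNilpotent
    set T : Set (Subgroup Y) := {M | M.Normal ∧ IsMulCommutative M}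
    obtain ⟨M, hM⟩ := (Set.toFinite T).exists_maximal
      ⟨⊥, ⟨inferInstance, ⟨⟨fun a b => Subtype.ext (by simp [mem_bot.1 a.2, mem_bot.1 b.2])⟩⟩⟩⟩
    obtain ⟨⟨hMn, hMc⟩, hMmax⟩ := hM
    haveI := hMn
    haveI := hMc
    have hMself : centralizer (M : Set Y) = M :=
      S0015.result M fun B hB1 hB2 hMB => le_antisymm (hMmax ⟨hB1, hB2⟩ hMB) hMB
    set M' := M.map Y.subtype with hM'
    have hMY : M' ≤ Y := map_subtype_le _
    have hMne : M' ≠ ⊥ := by
      intro e'
      have eM : M = ⊥ := (Subgroup.map_eq_bot_iff_of_injective _ Y.subtype_injective).1 e'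
      rw [eM] at hMself
      have : (⟨a0, ⟨hAH ha0, mem_centralizer_iff_comm.2 fun b hb => hAab b hb a0 ha0⟩⟩ : Y) ∈
          centralizer ((⊥ : Subgroup Y) : Set Y) :=
        mem_centralizer_iff_comm.2 fun y hy => by simp [mem_bot.1 hy]
      rw [hMself, mem_bot] at this
      exact ha01 (congrArg Subtype.val this)
    have hHT' : HalfTrans (S : Subgroup G) Y M' c p :=
      { comm := hSc, sq := h.sylow_sq S, norm := inf_le_left.trans hHN,
        odd := Odd.of_dvd_nat hHodd (card_dvd_of_le inf_le_left),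
        faith := eq_bot_iff.2 ((inf_le_inf_right _ inf_le_left).trans hfaith.le),
        const := fun u hu hu1 => by rw [hstabY u hu hu1]; exact hconst u hu hu1,
        one_lt := hc1, Asub := hMY,
        Anorm := Coprime.le_normalizer_of_conj_mem fun a ha z hz => by
          obtain ⟨w, hw, rfl⟩ := hz
          exact ⟨⟨a, ha⟩ * w * ⟨a, ha⟩⁻¹, hMn.conj_mem w hw _, by simp⟩,
        Acomm := ⟨⟨fun a b => by
          obtain ⟨_, a', ha', rfl⟩ := a
          obtain ⟨_, b', hb', rfl⟩ := b
          exact Subtype.ext (congrArg (fun t : M => ((t : Y) : G))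
            (hMc.is_comm.comm ⟨a', ha'⟩ ⟨b', hb'⟩))⟩⟩,
        prime := h.hp,
        exp := fun a ha => by
          by_cases ha1 : a = 1
          · rw [ha1, one_pow]
          · rw [← hYord a (hMY ha) ha1]; exact pow_orderOf_eq_one a,
        Ane := hMne }
    obtain ⟨hMcard, hMfpf⟩ := hHT'.main
    have hYM : Y ≤ M' := fun y hy => by
      refine ⟨⟨y, hy⟩, ?_, rfl⟩
      show (⟨y, hy⟩ : Y) ∈ M
      rw [← hMself]
      refine mem_centralizer_iff_comm.2 fun w hw => Subtype.ext ?_
      have hy' : orderOf y ∣ p := by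
        by_cases hy1 : y = 1
        · rw [hy1, orderOf_one]; exact one_dvd _
        · rw [hYord y hy hy1]
      exact mem_centralizer_iff_comm.1
        (h.commute_of_normalize hMcard hy' (hHT'.Anorm hy)) (w : G) ⟨w, hw, rfl⟩
    have : H ⊓ centralizer ({u0} : Set G) = ⊥ := eq_bot_iff.2 fun z hz => by
      rw [← hstabY u0 hu0 hu01] at hz
      by_contra hz1
      have hz1' : z ≠ 1 := fun e => hz1 (mem_bot.2 e)
      have hmem : u0 ∈ (S : Subgroup G) ⊓ centralizer ({z} : Set G) :=
        ⟨hu0, mem_centralizer_sg.2 (mem_centralizer_sg.1 hz.2).symm⟩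
      rw [hMfpf z (hYM hz.1) hz1', mem_bot] at hmem
      exact hu01 hmem
    rw [hcdef, this, card_bot] at hc1
    omega
  · -- `r = q`
    rw [e] at hAcard
    have ha0q : orderOf a0 = q := hr.symm.trans e
    have hgen : zpowers a0 = A :=
      eq_of_le_of_card_ge (zpowers_le.2 ha0) (by rw [Nat.card_zpowers, ha0q, hAcard])
    have hYA : H ⊓ centralizer (A : Set G) ≤ A := by
      intro w hw
      by_contra hwA
      have hwq : orderOf w = q := by
        rcases hord w hw.1 (fun e1 => hwA (e1 ▸ one_mem A)) with o | o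
        · exact (h.not_mul (show Commute a0 w from mem_centralizer_iff_comm.1 hw.2 a0 ha0) ha0q
            (Or.inr o)).elim
        · exact o
      have hcw : Commute a0 w := mem_centralizer_iff_comm.1 hw.2 a0 ha0
      set B := zpowers a0 ⊔ zpowers w with hB
      have hBc : IsMulCommutative B := by
        refine ⟨⟨fun x y => Subtype.ext ?_⟩⟩
        have h1 : B ≤ centralizer (B : Set G) := by
          rw [le_centralizer_iff]
          refine sup_le (zpowers_le.2 ?_) (zpowers_le.2 ?_)
          all_goals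
            refine mem_centralizer_iff_comm.2 fun z hz => ?_
            have : B ≤ centralizer ({a0} : Set G) ⊓ centralizer ({w} : Set G) := by
              refine sup_le (zpowers_le.2 ⟨mem_centralizer_sg.2 rfl, mem_centralizer_sg.2 hcw.eq.symm⟩)
                (zpowers_le.2 ⟨mem_centralizer_sg.2 hcw.eq, mem_centralizer_sg.2 rfl⟩)
            first
              | exact (mem_centralizer_sg.1 (this hz).1).symm
              | exact (mem_centralizer_sg.1 (this hz).2).symm
        exact mem_centralizer_iff_comm.1 (h1 y.2) x x.2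
      have hBH : B ≤ H := sup_le (zpowers_le.2 (hAH ha0)) (zpowers_le.2 hw.1)
      have hBq : ∀ b ∈ B, b ^ q = 1 := by
        intro b hb
        by_cases hb1 : b = 1
        · rw [hb1, one_pow]
        rcases hord b (hBH hb) hb1 with o | o
        · exact (h.not_mul (show Commute a0 b from
            mem_centralizer_iff_comm.1 (show b ∈ centralizer (B : Set G) from
              mem_centralizer_iff_comm.2 fun z hz =>
                congrArg Subtype.val (hBc.is_comm.comm ⟨z, hz⟩ ⟨b, hb⟩)) a0
              (mem_sup_left (mem_zpowers a0))) ha0q (Or.inr o)).elim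
        · rw [← o]; exact pow_orderOf_eq_one b
      obtain ⟨B', hB'B, hB'c, hB'n, -⟩ := exists_noncyclic B ⊥ h.hq hBq bot_le
        (mem_sup_left (mem_zpowers a0)) (by rw [mem_bot]; exact ha01)
        (mem_sup_right (mem_zpowers w)) (by rw [bot_sup_eq, hgen]; exact hwA)
      haveI := hB'c
      have hcop : (Nat.card B').Coprime (Nat.card (S : Subgroup G)) := by
        obtain ⟨j, hj⟩ := IsPGroup.iff_card.1 S.2
        rw [hj]
        exact Nat.Coprime.pow_right _ (Nat.coprime_two_right.2
          (Odd.of_dvd_nat hHodd (card_dvd_of_le (hB'B.trans hBH))))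
      have := eq_bot_of_fpf B' (S : Subgroup G) hB'n ((hB'B.trans hBH).trans hHN) hcop
        fun b hb hb1 => eq_bot_iff.2 fun v hv => by
          by_contra hv1
          have hv1' : v ≠ 1 := fun e1 => hv1 (mem_bot.2 e1)
          have := hstabp v hv.1 hv1' b (hBH (hB'B hb))
            (mem_centralizer_sg.2 (mem_centralizer_sg.1 hv.2).symm) hb1
          have h2 := hBq b (hB'B hb)
          have h3 := orderOf_dvd_of_pow_eq_one h2
          rw [this] at h3
          exact h.pq ((Nat.prime_dvd_prime_iff_eq h.hp h.hq).1 h3)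
      have h4 := h.four_le_card S
      rw [this, card_bot] at h4
      omega
    -- the action of `H` on `A`
    haveI := hAc
    haveI : IsCyclic A := isCyclic_of_prime_card hAcard
    let φ : H →* MulAut A := A.normalizerMonoidHom.comp (Subgroup.inclusion hAn)
    have hker : ∀ z : H, z ∈ φ.ker ↔ (z : G) ∈ centralizer (A : Set G) := by
      intro z
      rw [MonoidHom.mem_ker, mem_centralizer_iff_comm]
      constructor
      · intro hz a ha
        have := congrArg Subtype.val (DFunLike.congr_fun hz ⟨a, ha⟩)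
        exact (mul_inv_eq_iff_eq_mul.1 this).symm
      · intro hz
        ext a
        show (z : G) * a * (z : G)⁻¹ = a
        rw [← hz a a.2, mul_inv_cancel_right]
    have hkerA : φ.ker.map H.subtype = A := by
      refine le_antisymm ?_ fun a ha => ⟨⟨a, hAH ha⟩, (hker _).2
        (mem_centralizer_iff_comm.2 fun b hb => hAab b hb a ha), rfl⟩
      rintro _ ⟨z, hz, rfl⟩
      exact hYA ⟨z.2, (hker z).1 hz⟩
    have hkercard : Nat.card φ.ker = q := by
      have := congrArg (fun B : Subgroup G => Nat.card B) hkerA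
      simp only [card_map_of_injective (Subgroup.subtype_injective _)] at this
      rw [this, hAcard]
    have hautcard : Nat.card (MulAut A) = q - 1 := by
      rw [IsCyclic.card_mulAut, hAcard, Nat.totient_prime h.hq]
    haveI : IsCyclic (ZMod (Nat.card A))ˣ := by rw [hAcard]; exact ZMod.isCyclic_units_prime h.hq
    haveI : IsCyclic (MulAut A) :=
      isCyclic_of_surjective (IsCyclic.mulAutMulEquiv A).symm (IsCyclic.mulAutMulEquiv A).symm.surjective
    have hrange : Nat.card φ.range ∣ p := by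
      haveI : IsCyclic φ.range := Subgroup.isCyclic φ.range
      obtain ⟨g, hg⟩ := IsCyclic.exists_generator (α := φ.range)
      rw [← orderOf_eq_card_of_forall_mem_zpowers hg]
      obtain ⟨z, hz⟩ := g.2
      refine orderOf_dvd_of_pow_eq_one (Subtype.ext ?_)
      rw [SubgroupClass.coe_pow, ← hz, ← map_pow]
      by_cases hz1 : (z : G) = 1
      · rw [show z = 1 from Subtype.ext hz1, one_pow, map_one]; rfl
      rcases hord z z.2 hz1 with o | o
      · rw [show z ^ p = 1 from Subtype.ext (by
          rw [SubgroupClass.coe_pow, ← o, pow_orderOf_eq_one]; rfl), map_one]; rfl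
      · have h1 : orderOf (φ z) ∣ q := by
          rw [← o, Subgroup.orderOf_coe]; exact orderOf_map_dvd φ z
        have h2 : orderOf (φ z) ∣ q - 1 := hautcard ▸ orderOf_dvd_natCard _
        rcases (Nat.dvd_prime h.hq).1 h1 with o1 | o1
        · rw [map_pow, orderOf_eq_one_iff.1 o1, one_pow]; rfl
        · rw [o1] at h2
          have := Nat.le_of_dvd (by have := h.q3; omega) h2
          have := h.q3
          omega
    have hHcard : Nat.card H = p * q := by
      rw [← Subgroup.card_mul_index φ.ker, hkercard, Subgroup.index_ker, mul_comm]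
      rcases (Nat.dvd_prime h.hp).1 hrange with o | o
      · exfalso
        have hHA : H ≤ A := by
          have : φ.ker = ⊤ := by
            rw [← Subgroup.index_eq_one, Subgroup.index_ker]; exact o
          rw [← hkerA, this]
          exact fun z hz => ⟨⟨z, hz⟩, mem_top _, rfl⟩
        obtain ⟨z, hz, hz1⟩ := (Subgroup.bot_or_exists_ne_one _).resolve_left
          ((one_lt_card_iff_ne_bot _).1 hc1)
        have h1 := hstabp u0 hu0 hu01 z hz.1 hz.2 hz1
        have h2 := orderOf_dvd_of_pow_eq_one (hexp z (hHA hz.1))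
        rw [h1, e] at h2
        exact h.pq ((Nat.prime_dvd_prime_iff_eq h.hp h.hq).1 h2)
      · rw [o]
    have hcp : c = p := by
      have hd : c ∣ p * q := hHcard ▸ card_dvd_of_le inf_le_left
      have hpg : IsPGroup p (H ⊓ centralizer ({u0} : Set G) : Subgroup G) :=
        IsPGroup.iff_orderOf.2 fun z => by
          by_cases hz1 : (z : G) = 1
          · exact ⟨0, by rw [pow_zero, orderOf_eq_one_iff]; exact Subtype.ext hz1⟩
          · exact ⟨1, by rw [pow_one, ← Subgroup.orderOf_coe]
                         exact hstabp u0 hu0 hu01 z z.2.1 z.2.2 hz1⟩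
      obtain ⟨j, hj⟩ := IsPGroup.iff_card.1 hpg
      rw [← hcdef] at hj
      rw [hj] at hd hc1 ⊢
      rcases j with _ | _ | j
      · simp at hc1
      · exact pow_one p
      · exfalso
        have h2 : p * p ∣ p * q := (Dvd.intro_left (p ^ j) (by rw [pow_succ, pow_succ]; ring)).trans hd
        exact h.pq ((Nat.prime_dvd_prime_iff_eq h.hp h.hq).1
          (Nat.dvd_of_mul_dvd_mul_left h.hp.pos h2))
    refine ⟨H, A, ⟨hCS, hcentN, hHN, hdec, hHcard, hAH, hAcard, hAn,
      fun u hu hu1 => (hconst u hu hu1).trans hcp, fun z hz hzo => ?_⟩, h4t⟩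
    -- some nontrivial point is fixed by `z`
    obtain ⟨w, hw, hw1, hzw⟩ : ∃ w ∈ (S : Subgroup G), w ≠ 1 ∧ z ∈ centralizer ({w} : Set G) := by
      set L := H ⊓ centralizer ({u0} : Set G) with hL
      let L0 : Sylow p H := Sylow.ofCard (L.subgroupOf H) (by
        rw [Nat.card_congr (subgroupOfEquivOfLe (inf_le_left : L ≤ H)).toEquiv, hconst u0 hu0 hu01,
          hcp, hHcard, Nat.factorization_mul h.hp.ne_zero h.hq.ne_zero, Finsupp.add_apply,
          h.hp.factorization_self, h.hq.factorization, Finsupp.single_apply, if_neg (Ne.symm h.pq),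
          add_zero, pow_one])
      obtain ⟨R, hR⟩ := (show IsPGroup p (zpowers (⟨z, hz⟩ : H)) from
        IsPGroup.of_card (n := 1) (by rw [Nat.card_zpowers, Subgroup.orderOf_mk, hzo, pow_one])).exists_le_sylow
      obtain ⟨g, rfl⟩ := MulAction.exists_smul_eq H L0 R
      obtain ⟨v, hv, ev⟩ := exists_of_mem_sylow_smul g L0 (hR (mem_zpowers _))
      have ev' : (g : G) * v * (g : G)⁻¹ = z := congrArg Subtype.val ev
      have hvL : (v : G) ∈ L := hv
      refine ⟨(g : G) * u0 * (g : G)⁻¹, Coprime.conj_mem_of_mem_normalizer (hHN g.2) hu0,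
        fun e1 => hu01 (conj_eq_one_iff.1 e1), mem_centralizer_sg.2 ?_⟩
      rw [← ev']
      calc (g : G) * u0 * (g : G)⁻¹ * ((g : G) * v * (g : G)⁻¹) = (g : G) * (u0 * v) * (g : G)⁻¹ := by group
        _ = (g : G) * ((v : G) * u0) * (g : G)⁻¹ := by rw [mem_centralizer_sg.1 hvL.2]
        _ = (g : G) * v * (g : G)⁻¹ * ((g : G) * u0 * (g : G)⁻¹) := by group
    rw [← h.tw_eq hzo hx]
    exact (h.fix_card S hCS hzo (hHN hz) hw hw1 hzw).1

end Cfsg.Agent.AutOrbit69
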