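import Cfsg.Agent.AutOrbit69.Frob

/-!
The Frobenius case is impossible.
-/

set_option autoImplicit false
set_option linter.style.haveILetI false
set_option linter.unusedSectionVars false

namespace Cfsg.Agent.AutOrbit69

open Subgroup

theorem num_frob (N k t p q E P Q : ℕ) (hp : 3 ≤ p) (hq : 2 ≤ q) (ht : 2 ≤ t)
    (hkq : k = q * (t - 1) + 1) (htk : t ∣ k) (hNk : k * p ≤ N)
    (hE : k * p * t * E ≤ N * (t - 1) * (t + k * (p - 1))) (hP : t * p * P ≤ N * (p - 2))
    (hQ : p * Q + 1 ≤ N) (hN : N ≤ 1 + E + P + Q) : False := by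
  obtain ⟨s, rfl⟩ : ∃ s, t = s + 1 := ⟨t - 1, by omega⟩
  obtain ⟨m, rfl⟩ : ∃ m, p = m + 2 := ⟨p - 2, by omega⟩
  obtain ⟨r, rfl⟩ : ∃ r, q = r + 1 := ⟨q - 1, by omega⟩
  simp only [Nat.add_sub_cancel, show m + 2 - 1 = m + 1 from rfl] at hkq hE hP
  -- `t` divides `q - 1`
  have hdr : s + 1 ∣ r := by
    have h1 : s + 1 ∣ (r + 1) * s + 1 + r := Dvd.intro_left (r + 1) (by ring)
    exact (Nat.dvd_add_right (hkq ▸ htk)).1 h1
  have hrs : s + 1 ≤ r := Nat.le_of_dvd (by omega) hdr
  have hk2 : (s + 1) * (s + 1) ≤ k := by rw [hkq]; nlinarith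
  obtain ⟨d, hd⟩ := Nat.le.dest hk2
  nlinarith [Nat.mul_le_mul_left (k * (m + 2) * (s + 1)) hN, Nat.mul_le_mul_left k hP,
    Nat.mul_le_mul_left (k * (s + 1)) hQ, hE]

variable {G : Type*} [Group G] [Finite G] {p q : ℕ} (h : Orbit5 G p q) (S : Sylow 2 G)
include h

/-- The Frobenius case is impossible. -/
theorem Orbit5.false_of_frobData [Fact p.Prime] [Fact q.Prime] {x : G} (hx : orderOf x = p)
    {H A : Subgroup G} (D : FrobData S p q H A (tw x)) : False := by
  classical
  haveI := h.simple
  haveI := Fact.mk Nat.prime_two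
  set t := tw x with ht
  set k := Nat.card (S : Subgroup G) with hk
  have hp3 := h.p3
  have hq3 := h.q3
  have ht2 : 2 ≤ t := h.two_le_tw hx
  have hHodd : Odd (Nat.card H) := by rw [D.cardH]; exact h.odd_p.mul h.odd_q
  obtain ⟨u0, hu0, hu01⟩ := ((S : Subgroup G).bot_or_exists_ne_one).resolve_left fun e => by
    have := h.four_le_card S
    rw [e, card_bot] at this
    omega
  have hfacH : (Nat.card H).factorization p = 1 := by
    rw [D.cardH, Nat.factorization_mul h.hp.ne_zero h.hq.ne_zero, Finsupp.add_apply,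
      h.hp.factorization_self, h.hq.factorization, Finsupp.single_apply, if_neg (Ne.symm h.pq), add_zero]
  -- Sylow subgroups of the complement
  have hsyl : ∀ L : Sylow p H, Nat.card ((L : Subgroup H).map H.subtype) = p := fun L => by
    rw [card_map_of_injective H.subtype_injective, L.card_eq_multiplicity, hfacH, pow_one]
  have hstabsyl : ∀ u ∈ (S : Subgroup G), u ≠ 1 → ∃ L : Sylow p H,
      (L : Subgroup H).map H.subtype = H ⊓ centralizer ({u} : Set G) := by
    intro u hu hu1
    refine ⟨Sylow.ofCard ((H ⊓ centralizer ({u} : Set G)).subgroupOf H) ?_, ?_⟩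
    · rw [Nat.card_congr (subgroupOfEquivOfLe inf_le_left).toEquiv, D.stab u hu hu1, hfacH, pow_one]
    · exact Subgroup.map_subgroupOf_eq_of_le inf_le_left
  obtain ⟨L0, hL0⟩ := hstabsyl u0 hu0 hu01
  obtain ⟨z0, hz0, hz01⟩ := (Subgroup.bot_or_exists_ne_one _).resolve_left
    ((one_lt_card_iff_ne_bot _).1 (by rw [D.stab u0 hu0 hu01]; exact h.hp.one_lt))
  have hL0eq : zpowers z0 = H ⊓ centralizer ({u0} : Set G) := by
    have ho : orderOf z0 = p := by
      have := orderOf_dvd_natCard (⟨z0, hz0⟩ : (H ⊓ centralizer ({u0} : Set G) : Subgroup G))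
      rw [D.stab u0 hu0 hu01, Subgroup.orderOf_mk] at this
      exact ((Nat.dvd_prime h.hp).1 this).resolve_left fun e => hz01 (orderOf_eq_one_iff.1 e)
    exact eq_of_le_of_card_ge (zpowers_le.2 hz0) (by rw [Nat.card_zpowers, ho, D.stab u0 hu0 hu01])
  have hz0o : orderOf z0 = p := by
    rw [← Nat.card_zpowers, hL0eq, D.stab u0 hu0 hu01]
  -- elements of order `p` in the complement
  have hgen : ∀ L : Sylow p H, ∃ z ∈ H, orderOf z = p ∧ (L : Subgroup H).map H.subtype = zpowers z := by
    intro L
    obtain ⟨z, hz, hz1⟩ := (Subgroup.bot_or_exists_ne_one ((L : Subgroup H).map H.subtype)).resolve_left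
      ((one_lt_card_iff_ne_bot _).1 (by rw [hsyl L]; exact h.hp.one_lt))
    have ho : orderOf z = p := by
      have := orderOf_dvd_natCard (⟨z, hz⟩ : (L : Subgroup H).map H.subtype)
      rw [hsyl L, Subgroup.orderOf_mk] at this
      exact ((Nat.dvd_prime h.hp).1 this).resolve_left fun e => hz1 (orderOf_eq_one_iff.1 e)
    exact ⟨z, map_subtype_le _ hz, ho, (eq_of_le_of_card_ge (zpowers_le.2 hz)
      (by rw [Nat.card_zpowers, ho, hsyl L])).symm⟩
  have hfix : ∀ L : Sylow p H,
      Nat.card ((S : Subgroup G) ⊓ centralizer ((L : Subgroup H).map H.subtype : Set G) : Subgroup G) = t := by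
    intro L
    obtain ⟨z, hz, ho, e⟩ := hgen L
    rw [e, zpowers_eq_closure, centralizer_closure]
    exact D.fixed z hz ho
  have hqA : ∀ a ∈ A, a ≠ 1 → orderOf a = q := fun a ha ha1 => by
    have := orderOf_dvd_natCard (⟨a, ha⟩ : A)
    rw [D.cardA, Subgroup.orderOf_mk] at this
    exact ((Nat.dvd_prime h.hq).1 this).resolve_left fun e => ha1 (orderOf_eq_one_iff.1 e)
  have hfree : ∀ u ∈ (S : Subgroup G), u ≠ 1 → ∀ a ∈ A, a * u = u * a → a = 1 := by
    intro u hu hu1 a ha hau
    by_contra ha1
    exact h.not_mul (show Commute a u from hau) (hqA a ha ha1) (Or.inl (h.orderOf_eq_two S hu hu1))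
  -- the number of Sylow subgroups
  have hnq : Nat.card (Sylow p H) = q := by
    have hd : Nat.card (Sylow p H) ∣ q := by
      have h1 : Nat.card (Sylow p H) ∣ (L0 : Subgroup H).index := L0.card_dvd_index
      have h2 : Nat.card (L0 : Subgroup H) * (L0 : Subgroup H).index = p * q := by
        rw [card_mul_index, D.cardH]
      rw [L0.card_eq_multiplicity, hfacH, pow_one] at h2
      rwa [Nat.eq_of_mul_eq_mul_left h.hp.pos h2] at h1
    refine ((Nat.dvd_prime h.hq).1 hd).resolve_left fun e => ?_
    obtain ⟨hsub, -⟩ := Nat.card_eq_one_iff_unique.1 e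
    -- a normal subgroup of order `p` would fix a point moved by `A`
    obtain ⟨a, ha, ha1⟩ := (Subgroup.bot_or_exists_ne_one A).resolve_left
      ((one_lt_card_iff_ne_bot _).1 (by rw [D.cardA]; exact h.hq.one_lt))
    have hu' : a * u0 * a⁻¹ ∈ (S : Subgroup G) :=
      Coprime.conj_mem_of_mem_normalizer (D.norm (D.Asub ha)) hu0
    obtain ⟨L1, hL1⟩ := hstabsyl (a * u0 * a⁻¹) hu' (fun e => hu01 (conj_eq_one_iff.1 e))
    rw [hsub.elim L1 L0, hL0] at hL1
    -- `a` normalises the stabiliser, hence commutes with it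
    have haL : a ∈ normalizer ((zpowers z0 : Subgroup G) : Set G) := by
      refine mem_normalizer_fintype fun y hy => ?_
      rw [hL0eq] at hy ⊢
      rw [hL1]
      refine ⟨H.mul_mem (H.mul_mem (D.Asub ha) hy.1) (H.inv_mem (D.Asub ha)), mem_centralizer_sg.2 ?_⟩
      calc a * u0 * a⁻¹ * (a * y * a⁻¹) = a * (u0 * y) * a⁻¹ := by group
        _ = a * (y * u0) * a⁻¹ := by rw [mem_centralizer_sg.1 hy.2]
        _ = a * y * a⁻¹ * (a * u0 * a⁻¹) := by group
    have hcm : a * z0 * a⁻¹ * z0⁻¹ ∈ A ⊓ zpowers z0 := by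
      refine ⟨?_, Subgroup.mul_mem _ (Coprime.conj_mem_of_mem_normalizer haL (mem_zpowers z0))
        (Subgroup.inv_mem _ (mem_zpowers z0))⟩
      rw [mul_assoc, mul_assoc]
      refine A.mul_mem ha ?_
      rw [← mul_assoc]
      exact Coprime.conj_mem_of_mem_normalizer (D.Anorm hz0.1) (A.inv_mem ha)
    have hdis : A ⊓ zpowers z0 = ⊥ := disjoint_iff.1 (disjoint_of_coprime_natCard (by
      rw [D.cardA, Nat.card_zpowers, hz0o]
      exact (Nat.coprime_primes h.hq h.hp).2 (Ne.symm h.pq)))
    rw [hdis, mem_bot] at hcm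
    exact h.not_mul (show Commute a z0 from mul_inv_eq_iff_eq_mul.1 (mul_inv_eq_one.1 hcm))
      (hqA a ha ha1) (Or.inr hz0o)
  -- the partition of `S`
  have hkq : k = q * (t - 1) + 1 := by
    cases nonempty_fintype (Sylow p H)
    let f : (Σ L : Sylow p H, ↥((((S : Subgroup G) ⊓ centralizer ((L : Subgroup H).map H.subtype : Set G)
        : Subgroup G) : Set G) \ {1} : Set G)) → ↥(((S : Subgroup G) : Set G) \ {1} : Set G) :=
      fun w => ⟨w.2.1, w.2.2.1.1, w.2.2.2⟩
    have hu_eq : ∀ (L : Sylow p H) (v : G), v ∈ (S : Subgroup G) → v ≠ 1 →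
        v ∈ centralizer ((L : Subgroup H).map H.subtype : Set G) →
        (L : Subgroup H).map H.subtype = H ⊓ centralizer ({v} : Set G) := by
      intro L v hv hv1 hvc
      refine eq_of_le_of_card_ge (fun y hy => ⟨map_subtype_le _ hy,
        mem_centralizer_sg.2 (mem_centralizer_iff_comm.1 hvc y hy).symm⟩) ?_
      rw [hsyl L, D.stab v hv hv1]
    have hbij : Function.Bijective f := by
      constructor
      · rintro ⟨L, v, hv⟩ ⟨L', v', hv'⟩ e
        have e' : v = v' := congrArg Subtype.val e
        subst e'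
        have hLL : L = L' := Sylow.ext (Subgroup.map_injective H.subtype_injective
          ((hu_eq L v hv.1.1 hv.2 hv.1.2).trans (hu_eq L' v hv'.1.1 hv'.2 hv'.1.2).symm))
        subst hLL
        rfl
      · rintro ⟨v, hv, hv1⟩
        obtain ⟨L, hL⟩ := hstabsyl v hv hv1
        refine ⟨⟨L, v, ⟨hv, mem_centralizer_iff_comm.2 fun y hy => ?_⟩, hv1⟩, rfl⟩
        rw [hL] at hy
        exact (mem_centralizer_sg.1 hy.2).symm
    have hc := Nat.card_eq_of_bijective f hbij
    rw [Nat.card_sigma, Nat.card_coe_set_eq, ncard_coe_diff_one] at hc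
    rw [Finset.sum_congr rfl (fun L _ => by rw [Nat.card_coe_set_eq, ncard_coe_diff_one, hfix L]),
      Finset.sum_const, Finset.card_univ, smul_eq_mul, Fintype.card_eq_nat_card, hnq, ← hk] at hc
    have := h.four_le_card S
    omega
  have htk : t ∣ k := by
    rw [← hfix L0, hk]
    exact card_dvd_of_le inf_le_left
  -- the centraliser of an involution of `S`
  have hCdec : ∀ u ∈ (S : Subgroup G), u ≠ 1 → ∀ c ∈ centralizer ({u} : Set G),
      ∃ s ∈ (S : Subgroup G), ∃ a ∈ H ⊓ centralizer ({u} : Set G), c = s * a := by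
    intro u hu hu1 c hc
    obtain ⟨s, hs, a, ha, e⟩ := D.dec c (D.cent u hu hu1 hc)
    refine ⟨s, hs, a, ⟨ha, ?_⟩, e⟩
    have : a = s⁻¹ * c := by rw [e]; group
    rw [this]
    exact Subgroup.mul_mem _ (Subgroup.inv_mem _ (h.sylow_le_centralizer S hu hs)) hc
  have hNk : k * p ≤ Nat.card G := by
    have hdis : Disjoint (S : Subgroup G) (H ⊓ centralizer ({u0} : Set G)) := by
      obtain ⟨n, hn⟩ := IsPGroup.iff_card.1 S.2
      refine disjoint_of_coprime_natCard ?_
      rw [hn, D.stab u0 hu0 hu01]
      exact Nat.Coprime.pow_left _ ((Nat.coprime_primes Nat.prime_two h.hp).2 (Ne.symm h.p2))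
    rw [← D.stab u0 hu0 hu01, hk, ← Nat.card_prod]
    exact Nat.card_le_card_of_injective _ (mul_injective_of_disjoint hdis)
  -- elements of even order
  have hE : k * p * t * (evenSet h).ncard ≤ Nat.card G * (t - 1) * (t + k * (p - 1)) := by
    have hkpt : 0 < k * p * t := Nat.mul_pos (Nat.mul_pos Nat.card_pos h.hp.pos) (by omega)
    have hb := h.even_bound S q (Nat.card G * (t + k * (p - 1)) / (k * p * t))
      (fun u hu hu1 => ?_) (fun u hu hu1 => ?_)
    · have h1 : q * (k * p * t * (evenSet h).ncard) ≤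
          q * (Nat.card G * (t - 1) * (t + k * (p - 1))) := by
        calc q * (k * p * t * (evenSet h).ncard) = k * p * t * (q * (evenSet h).ncard) := by ring
          _ ≤ k * p * t * ((k - 1) * (Nat.card G * (t + k * (p - 1)) / (k * p * t))) :=
              Nat.mul_le_mul le_rfl hb
          _ = (k - 1) * (Nat.card G * (t + k * (p - 1)) / (k * p * t) * (k * p * t)) := by ring
          _ ≤ (k - 1) * (Nat.card G * (t + k * (p - 1))) :=
              Nat.mul_le_mul le_rfl (Nat.div_mul_le_self _ _)
          _ = q * (Nat.card G * (t - 1) * (t + k * (p - 1))) := by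
              rw [show k - 1 = q * (t - 1) by omega]; ring
      exact Nat.le_of_mul_le_mul_left h1 h.hq.pos
    · rw [← D.cardA, ← ncard_coe A]
      refine Set.ncard_le_ncard_of_injOn (fun a => a * u * a⁻¹) (fun a ha => ?_) fun a ha b hb e => ?_
      · exact ⟨Coprime.conj_mem_of_mem_normalizer (D.norm (D.Asub ha)) hu,
          fun e => hu1 (conj_eq_one_iff.1 e), isConj_iff.2 ⟨a, rfl⟩⟩
      · have e' : b⁻¹ * a * u = u * (b⁻¹ * a) := by
          have e0 : a * u * a⁻¹ = b * u * b⁻¹ := e
          calc b⁻¹ * a * u = b⁻¹ * (a * u * a⁻¹) * a := by group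
            _ = b⁻¹ * (b * u * b⁻¹) * a := by rw [e0]
            _ = u * (b⁻¹ * a) := by group
        exact (inv_mul_eq_one.1 (hfree u hu hu1 _ (A.mul_mem (A.inv_mem hb) ha) e')).symm
    · -- the bound on one class
      rw [Nat.le_div_iff_mul_le hkpt]
      set C := centralizer ({u} : Set G) with hC
      have h1 := h.clsEven_bound (h.orderOf_eq_two S hu hu1)
      set T := {c : G | c ∈ C ∧ c ^ p = 1} with hT
      set L := H ⊓ centralizer ({u} : Set G) with hL
      have hSL : Disjoint (S : Subgroup G) L := by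
        obtain ⟨n, hn⟩ := IsPGroup.iff_card.1 S.2
        refine disjoint_of_coprime_natCard ?_
        rw [hn, hL, D.stab u hu hu1]
        exact Nat.Coprime.pow_left _ ((Nat.coprime_primes Nat.prime_two h.hp).2 (Ne.symm h.p2))
      have hCcard : k * p ≤ Nat.card C := by
        rw [← D.stab u hu hu1, hk, ← Nat.card_prod]
        refine Nat.card_le_card_of_injective
          (fun w => (⟨(w.1 : G) * (w.2 : G), C.mul_mem (h.sylow_le_centralizer S hu w.1.2) w.2.2.2⟩ : C))
          fun a b e => mul_injective_of_disjoint hSL (congrArg Subtype.val e)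
      obtain ⟨L', hL'⟩ := hstabsyl u hu hu1
      -- the nontrivial elements of `p`-power one
      have hTbound : t * T.ncard ≤ t + k * (p - 1) := by
        have h2 : t * (T \ {1}).ncard ≤ k * (p - 1) := by
          have hcnt := mul_ncard_le (ι := (S : Subgroup G))
            (fun s => (fun l => (s : G) * l * (s : G)⁻¹) '' ((L : Set G) \ {1})) (T \ {1}) t (p - 1)
            (fun s => le_trans Set.ncard_image_le (by rw [ncard_coe_diff_one, hL, D.stab u hu hu1]))
            fun c hc => ?_
          · exact hcnt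
          obtain ⟨⟨hcC, hcp⟩, hc1⟩ := hc
          -- `c` is conjugate to an element of `L` by an element of `S`
          set C' : Subgroup G := C with hC'
          have hfacC : (Nat.card C').factorization p = 1 := by
            have hle : Nat.card C' ≤ k * p := by
              rw [← D.stab u hu hu1, hk, ← Nat.card_prod]
              refine Nat.card_le_card_of_surjective
                (fun w => (⟨(w.1 : G) * (w.2 : G), C.mul_mem (h.sylow_le_centralizer S hu w.1.2) w.2.2.2⟩ : C))
                fun ⟨d, hd⟩ => ?_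
              obtain ⟨s, hs, a, ha, e⟩ := hCdec u hu hu1 d hd
              exact ⟨(⟨s, hs⟩, ⟨a, ha⟩), Subtype.ext e.symm⟩
            rw [le_antisymm hle hCcard]
            obtain ⟨n, hn⟩ := IsPGroup.iff_card.1 S.2
            rw [hk, hn, Nat.factorization_mul (pow_ne_zero _ two_ne_zero) h.hp.ne_zero,
              Finsupp.add_apply, h.hp.factorization_self, Nat.prime_two.factorization_pow,
              Finsupp.single_apply, if_neg (Ne.symm h.p2), zero_add]
          let LC : Sylow p C' := Sylow.ofCard (L.subgroupOf C') (by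
            rw [Nat.card_congr (subgroupOfEquivOfLe (inf_le_right : L ≤ C')).toEquiv,
              D.stab u hu hu1, hfacC, pow_one])
          obtain ⟨R, hR⟩ := (show IsPGroup p (zpowers (⟨c, hcC⟩ : C')) from by
            refine IsPGroup.of_card (n := 1) ?_
            rw [Nat.card_zpowers, Subgroup.orderOf_mk, pow_one]
            exact orderOf_eq_prime hcp hc1).exists_le_sylow
          obtain ⟨g, rfl⟩ := MulAction.exists_smul_eq C' LC R
          obtain ⟨v, hv, ev⟩ := exists_of_mem_sylow_smul g LC (hR (mem_zpowers _))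
          have hvL : (v : G) ∈ L := hv
          obtain ⟨s, hs, a, ha, hsa⟩ := hCdec u hu hu1 (g : G) g.2
          set w := a * (v : G) * a⁻¹ with hw
          have hwL : w ∈ L := L.mul_mem (L.mul_mem ha hvL) (L.inv_mem ha)
          have hcw : c = s * w * s⁻¹ := by
            have : (g : G) * (v : G) * (g : G)⁻¹ = c := congrArg Subtype.val ev
            rw [← this, hsa, hw]; group
          have hw1 : w ≠ 1 := fun e => hc1 (by rw [hcw, e]; group; rfl)
          have hwo : orderOf w = p := by
            have := orderOf_dvd_natCard (⟨w, hwL⟩ : L)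
            rw [Subgroup.orderOf_mk, show Nat.card L = p from D.stab u hu hu1] at this
            exact ((Nat.dvd_prime h.hp).1 this).resolve_left fun e => hw1 (orderOf_eq_one_iff.1 e)
          have ht' : t = Nat.card ((S : Subgroup G) ⊓ centralizer ({w} : Set G) : Subgroup G) :=
            (D.fixed w hwL.1 hwo).symm
          rw [ht', ← ncard_coe]
          refine Set.ncard_le_ncard_of_injOn (fun f => if hf : s * f ∈ (S : Subgroup G) then ⟨s * f, hf⟩ else 1)
            (fun f hf => ?_) fun f hf f' hf' e => ?_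
          · have hsf : s * f ∈ (S : Subgroup G) := (S : Subgroup G).mul_mem hs hf.1
            simp only [dif_pos hsf]
            refine ⟨w, ⟨hwL, hw1⟩, ?_⟩
            show s * f * w * (s * f)⁻¹ = c
            have hfw : f * w = w * f := (mem_centralizer_sg.1 hf.2).symm
            rw [hcw, mul_assoc s f w, hfw]; group
          · simp only [dif_pos ((S : Subgroup G).mul_mem hs hf.1),
              dif_pos ((S : Subgroup G).mul_mem hs hf'.1)] at e
            exact mul_left_cancel (congrArg Subtype.val e)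
        have h3 : T.ncard ≤ (T \ {1}).ncard + 1 := by have := Set.pred_ncard_le_ncard_sdiff_singleton T 1; omega
        nlinarith
      refine Nat.le_of_mul_le_mul_left ?_ (Nat.card_pos (α := C))
      calc Nat.card C * ((clsEven h u).ncard * (k * p * t))
          = (Nat.card C * (clsEven h u).ncard) * t * (k * p) := by ring
        _ ≤ (Nat.card G * T.ncard) * t * (k * p) := Nat.mul_le_mul (Nat.mul_le_mul h1 le_rfl) le_rfl
        _ = Nat.card G * (t * T.ncard) * (k * p) := by ring
        _ ≤ Nat.card G * (t + k * (p - 1)) * Nat.card C :=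
            Nat.mul_le_mul (Nat.mul_le_mul le_rfl hTbound) hCcard
        _ = Nat.card C * (Nat.card G * (t + k * (p - 1))) := by ring
  -- elements of order `p`
  obtain ⟨P⟩ : Nonempty (Sylow p G) := inferInstance
  have hpd : p ∣ Nat.card G := hx ▸ orderOf_dvd_natCard x
  have hconj : ∀ g : G, orderOf g = p → ∃ w ∈ ((zpowers z0 : Subgroup G) : Set G) \ {1}, IsConj w g := by
    intro g hg
    obtain ⟨v, hv, hcomm⟩ := h.exists_commuting_involution hg
    obtain ⟨u, hu, hu1, huv⟩ := h.exists_conj_involution S hv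
    obtain ⟨c, hc⟩ := isConj_iff.1 huv
    have hgC : c⁻¹ * g * c ∈ centralizer ({u} : Set G) := by
      rw [mem_centralizer_sg]
      have := hcomm.eq
      rw [← hc] at this
      calc u * (c⁻¹ * g * c) = c⁻¹ * ((c * u * c⁻¹) * g) * c := by group
        _ = c⁻¹ * (g * (c * u * c⁻¹)) * c := by rw [this]
        _ = c⁻¹ * g * c * u := by group
    have ho : orderOf (c⁻¹ * g * c) = p := by
      rw [← hg]
      have := orderOf_injective (MulAut.conj c⁻¹).toMonoidHom (MulAut.conj c⁻¹).injective g
      simpa [MulAut.conj_apply] using this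
    have hNS := D.cent u hu hu1 hgC
    -- conjugate into `H`, then into `zpowers z0`
    set N := normalizer ((S : Subgroup G) : Set G)
    have hfacN : (Nat.card N).factorization p = 1 := by
      have hcardN : Nat.card N = k * (p * q) := by
        rw [← D.cardH, hk, ← Nat.card_prod]
        refine (Nat.card_congr (Equiv.ofBijective
          (fun w : ↥(S : Subgroup G) × ↥H => (⟨(w.1 : G) * (w.2 : G), N.mul_mem (le_normalizer w.1.2) (D.norm w.2.2)⟩ : N))
          ⟨fun a b e => ?_, fun ⟨n, hn⟩ => ?_⟩)).symm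
        · have hdis : Disjoint (S : Subgroup G) H := by
            obtain ⟨n, hn⟩ := IsPGroup.iff_card.1 S.2
            refine disjoint_of_coprime_natCard ?_
            rw [hn]
            exact Nat.Coprime.pow_left _ (Nat.coprime_two_left.2 hHodd)
          exact mul_injective_of_disjoint hdis (congrArg Subtype.val e)
        · obtain ⟨s, hs, a, ha, e⟩ := D.dec n hn
          exact ⟨(⟨s, hs⟩, ⟨a, ha⟩), Subtype.ext e.symm⟩
      obtain ⟨n, hn⟩ := IsPGroup.iff_card.1 S.2
      rw [hcardN, hk, hn, Nat.factorization_mul (pow_ne_zero _ two_ne_zero)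
        (Nat.mul_ne_zero h.hp.ne_zero h.hq.ne_zero), Finsupp.add_apply, Nat.prime_two.factorization_pow,
        Finsupp.single_apply, if_neg (Ne.symm h.p2), zero_add,
        Nat.factorization_mul h.hp.ne_zero h.hq.ne_zero, Finsupp.add_apply,
        h.hp.factorization_self, h.hq.factorization, Finsupp.single_apply, if_neg (Ne.symm h.pq), add_zero]
    have hzN : zpowers z0 ≤ N := zpowers_le.2 (D.norm hz0.1)
    let LN : Sylow p N := Sylow.ofCard ((zpowers z0).subgroupOf N) (by
      rw [Nat.card_congr (subgroupOfEquivOfLe hzN).toEquiv, Nat.card_zpowers, hz0o, hfacN, pow_one])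
    obtain ⟨R, hR⟩ := (show IsPGroup p (zpowers (⟨_, hNS⟩ : N)) from
      IsPGroup.of_card (n := 1) (by rw [Nat.card_zpowers, Subgroup.orderOf_mk, ho, pow_one])).exists_le_sylow
    obtain ⟨d, rfl⟩ := MulAction.exists_smul_eq N LN R
    obtain ⟨w, hw, ew⟩ := exists_of_mem_sylow_smul d LN (hR (mem_zpowers _))
    have ew' : (d : G) * (w : G) * (d : G)⁻¹ = c⁻¹ * g * c := congrArg Subtype.val ew
    refine ⟨w, ⟨hw, fun e => ?_⟩, isConj_iff.2 ⟨c * d, ?_⟩⟩
    · have e' : (w : G) = 1 := e
      rw [e', mul_one, mul_inv_cancel] at ew'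
      rw [← ew', orderOf_one] at ho
      exact h.hp.ne_one ho.symm
    · calc c * d * (w : G) * (c * d)⁻¹ = c * ((d : G) * w * (d : G)⁻¹) * c⁻¹ := by group
        _ = g := by rw [ew']; group
  have hdiv : p ∣ Nat.card (P : Subgroup G) := P.dvd_card_of_dvd_card hpd
  have hcent : ∀ w ∈ ((zpowers z0 : Subgroup G) : Set G) \ {1},
      t * Nat.card (P : Subgroup G) ≤ Nat.card (centralizer ({w} : Set G)) := by
    intro w hw
    have hwo : orderOf w = p := by
      have := orderOf_dvd_natCard (⟨w, hw.1⟩ : zpowers z0)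
      rw [Nat.card_zpowers, hz0o, Subgroup.orderOf_mk] at this
      exact ((Nat.dvd_prime h.hp).1 this).resolve_left fun e => hw.2 (orderOf_eq_one_iff.1 e)
    rw [ht, h.tw_eq hx hwo]
    exact h.le_card_cent rfl P hwo
  have hzcard : (((zpowers z0 : Subgroup G) : Set G) \ {1}).ncard = p - 1 := by
    rw [ncard_coe_diff_one, Nat.card_zpowers, hz0o]
  have hPb : t * p * {g : G | orderOf g = p}.ncard ≤ Nat.card G * (p - 2) := by
    obtain ⟨j, hj⟩ := hdiv
    by_cases hj1 : j = 1
    · -- `P` has order `p`; its normaliser does not centralise it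
      rw [hj1, mul_one] at hj
      obtain ⟨P', hP'⟩ := (show IsPGroup p (zpowers z0) from
        IsPGroup.of_card (n := 1) (by rw [Nat.card_zpowers, hz0o, pow_one])).exists_le_sylow
      have hP'eq : (P' : Subgroup G) = zpowers z0 := (eq_of_le_of_card_ge hP' (by
        rw [P'.card_eq_multiplicity, ← P.card_eq_multiplicity, hj, Nat.card_zpowers, hz0o])).symm
      obtain ⟨g, hgN, hgC⟩ := SetLike.not_le_iff_exists.1
        (fun hle => not_normalizer_le_centralizer h.noncomm hpd P' hle)
      rw [hP'eq] at hgN hgC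
      set z1 := g * z0 * g⁻¹ with hz1def
      have hz1mem : z1 ∈ zpowers z0 := Coprime.conj_mem_of_mem_normalizer hgN (mem_zpowers z0)
      have hne : z1 ≠ z0 := by
        intro e
        apply hgC
        rw [zpowers_eq_closure, centralizer_closure, mem_centralizer_sg]
        exact (mul_inv_eq_iff_eq_mul.1 e).symm
      have hcount := mul_ncard_iUnion_class_le ((((zpowers z0 : Subgroup G) : Set G) \ {1}) \ {z1})
        {g : G | orderOf g = p} (t * p) (fun w hw => by rw [← hj]; exact hcent w hw.1) fun y hy => ?_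
      · refine hcount.trans (Nat.mul_le_mul le_rfl (le_of_eq ?_))
        rw [Set.ncard_diff_singleton_of_mem, hzcard]
        · omega
        · refine ⟨hz1mem, fun e => ?_⟩
          have e' : z1 = 1 := e
          rw [hz1def, conj_eq_one_iff] at e'
          exact hz01 e'
      · obtain ⟨w, hw, hwc⟩ := hconj y hy
        by_cases hw1 : w = z1
        · refine ⟨z0, ⟨⟨mem_zpowers z0, hz01⟩, fun e => hne (Set.mem_singleton_iff.1 e).symm⟩,
            (isConj_iff.2 ⟨g, ?_⟩).trans hwc⟩
          rw [hw1, hz1def]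
        · exact ⟨w, ⟨hw, hw1⟩, hwc⟩
    · have hj0 : j ≠ 0 := fun e => by rw [e, mul_zero] at hj; exact Nat.card_pos.ne' hj
      have hjp : p ≤ j := by
        obtain ⟨n, hn⟩ := IsPGroup.iff_card.1 P.2
        have : j ∣ p ^ n := ⟨p, by rw [← hn, hj, mul_comm]⟩
        obtain ⟨i, -, rfl⟩ := (Nat.dvd_prime_pow h.hp).1 this
        rcases i with _ | i
        · simp at hj1
        · exact Nat.le_self_pow (Nat.succ_ne_zero i) p
      have hcount := mul_ncard_iUnion_class_le (((zpowers z0 : Subgroup G) : Set G) \ {1})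
        {g : G | orderOf g = p} (t * (p * j)) (fun w hw => by rw [← hj]; exact hcent w hw) hconj
      rw [hzcard] at hcount
      refine Nat.le_of_mul_le_mul_right ?_ (Nat.pos_of_ne_zero hj0)
      calc t * p * {g : G | orderOf g = p}.ncard * j = t * (p * j) * {g : G | orderOf g = p}.ncard := by ring
        _ ≤ Nat.card G * (p - 1) := hcount
        _ ≤ Nat.card G * ((p - 2) * j) := Nat.mul_le_mul le_rfl
              (le_trans (by omega : p - 1 ≤ 1 * (p - 1)) (by nlinarith [Nat.sub_add_cancel (show 1 ≤ p by omega), Nat.sub_add_cancel (show 2 ≤ p by omega)]))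
        _ = Nat.card G * (p - 2) * j := by ring
  -- elements of order `q`
  obtain ⟨a, ha, ha1⟩ := (Subgroup.bot_or_exists_ne_one A).resolve_left
    ((one_lt_card_iff_ne_bot _).1 (by rw [D.cardA]; exact h.hq.one_lt))
  have hao := hqA a ha ha1
  obtain ⟨Q, hQ⟩ := h.cent_eq_sylow hao
  have hAgen : zpowers a = A :=
    eq_of_le_of_card_ge (zpowers_le.2 ha) (by rw [Nat.card_zpowers, hao, D.cardA])
  have hQA : (Q : Subgroup G) = centralizer (A : Set G) := by
    rw [← hQ, ← hAgen, zpowers_eq_closure, centralizer_closure]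
  have hzNQ : z0 ∈ normalizer ((Q : Subgroup G) : Set G) := by
    rw [hQA]
    exact Coprime.le_normalizer_centralizer D.Anorm hz0.1
  have hpN : p * Nat.card (Q : Subgroup G) ∣ Nat.card (normalizer ((Q : Subgroup G) : Set G)) := by
    refine Nat.Coprime.mul_dvd_of_dvd_of_dvd ?_ ?_ (card_dvd_of_le le_normalizer)
    · rw [Q.card_eq_multiplicity]
      exact Nat.Coprime.pow_right _ ((Nat.coprime_primes h.hp h.hq).2 h.pq)
    · rw [← hz0o, ← Nat.card_zpowers]
      exact card_dvd_of_le (zpowers_le.2 hzNQ)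
  have hQb : p * {g : G | orderOf g = q}.ncard + 1 ≤ Nat.card G := by
    refine mul_add_one_le (Nat.card_pos : 0 < Nat.card (Q : Subgroup G))
      (Nat.le_of_dvd Nat.card_pos (card_subgroup_dvd_card _)) ?_
    refine le_trans (Nat.mul_le_mul (Nat.le_of_dvd Nat.card_pos hpN) le_rfl) ((h.q_bound Q).trans ?_)
    exact Nat.mul_le_mul le_rfl (Nat.sub_le_sub_right (card_le_of_le inf_le_left) 1)
  exact num_frob (Nat.card G) k t p q _ _ _ hp3 (by omega) ht2 hkq htk hNk hE hPb hQb h.card_partition

/-- There is no group with these hypotheses. -/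
theorem Orbit5.false : False := by
  haveI := Fact.mk h.hp
  haveI := Fact.mk h.hq
  haveI := Fact.mk Nat.prime_two
  obtain ⟨S⟩ : Nonempty (Sylow 2 G) := inferInstance
  by_cases hsemi : ∀ u ∈ (S : Subgroup G), u ≠ 1 → ∀ n ∈ normalizer ((S : Subgroup G) : Set G),
      n ∈ centralizer ({u} : Set G) → n ∈ centralizer ((S : Subgroup G) : Set G)
  · exact h.false_of_semi S hsemi
  push Not at hsemi
  obtain ⟨u, hu, hu1, n, hn, hnu, hnS⟩ := hsemi
  obtain ⟨x, hx⟩ := h.exists_p
  obtain ⟨H, A, D, -⟩ := h.exists_frobData S hx hu hu1 hn hnu hnS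
  exact h.false_of_frobData S hx D

end Cfsg.Agent.AutOrbit69
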