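import Cfsg.Agent.AutOrbit69.Bound
import Mathlib.GroupTheory.Perm.Cycle.Type

/-!
The semiregular case.
-/

set_option autoImplicit false
set_option linter.style.haveILetI false
set_option linter.unusedSectionVars false

namespace Cfsg.Agent.AutOrbit69

open Subgroup

theorem num_a (N k E P Q : ℕ) (hk : 4 ≤ k) (hE : 3 * k * E ≤ N * (k - 1)) (hP : k * P + 1 ≤ N)
    (hQ : 2 * Q + 2 ≤ N) (hN : N ≤ 1 + E + P + Q) : False := by
  obtain ⟨j, rfl⟩ : ∃ j, k = j + 1 := ⟨k - 1, by omega⟩
  simp only [Nat.add_sub_cancel] at hE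
  nlinarith

theorem num_b (N k E P Q : ℕ) (hk : 16 ≤ k) (hE : 3 * k * E ≤ N * (k - 1)) (hP : k * P + 2 ≤ 2 * N)
    (hQ : 2 * Q + 2 ≤ N) (hN : N ≤ 1 + E + P + Q) : False := by
  obtain ⟨j, rfl⟩ : ∃ j, k = j + 1 := ⟨k - 1, by omega⟩
  simp only [Nat.add_sub_cancel] at hE
  nlinarith

theorem num_eight (N E P Q : ℕ) (hE : 8 * E ≤ N) (hP : 4 * P + 1 ≤ N) (hQ : 2 * Q + 2 ≤ N)
    (hN : N ≤ 1 + E + P + Q) : False := by omega

theorem num_four (N E P Q : ℕ) (hE : 4 * E ≤ N) (hP : 4 * P + 1 ≤ N) (hQ : 2 * Q + 2 ≤ N)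
    (hN : N ≤ 1 + E + P + Q) : False := by omega

theorem mul_add_one_le {a m N C : ℕ} (hm : 1 ≤ m) (hmN : m ≤ N) (h : a * m * C ≤ N * (m - 1)) :
    a * C + 1 ≤ N := by
  obtain ⟨j, rfl⟩ : ∃ j, m = j + 1 := ⟨m - 1, by omega⟩
  simp only [Nat.add_sub_cancel] at h
  by_contra hlt
  have : (j + 1) * N ≤ (j + 1) * (a * C) := Nat.mul_le_mul le_rfl (by omega)
  nlinarith

variable {G : Type*} [Group G] [Finite G] {p q : ℕ} (h : Orbit5 G p q)
include h

theorem Orbit5.q_two_bound [Fact q.Prime] (Q : Sylow q G) :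
    2 * {g : G | orderOf g = q}.ncard + 2 ≤ Nat.card G := by
  haveI := h.simple
  have hb := h.q_bound Q
  set C := {g : G | orderOf g = q}.ncard
  have hqd : q ∣ Nat.card G := by
    obtain ⟨y, hy⟩ := h.exists_q
    exact hy ▸ orderOf_dvd_natCard y
  set N := normalizer ((Q : Subgroup G) : Set G)
  set Z : Subgroup G := (Q : Subgroup G) ⊓ centralizer ((Q : Subgroup G) : Set G)
  have hQN : Nat.card (Q : Subgroup G) ∣ Nat.card N := card_dvd_of_le le_normalizer
  have hQpos : 0 < Nat.card (Q : Subgroup G) := Nat.card_pos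
  have hQG : Nat.card (Q : Subgroup G) ≤ Nat.card G :=
    Nat.le_of_dvd Nat.card_pos (card_subgroup_dvd_card _)
  have hN0 : 0 < Nat.card G := Nat.card_pos
  by_cases hab : (Q : Subgroup G) ≤ centralizer ((Q : Subgroup G) : Set G)
  · have hne : ¬ N ≤ (Q : Subgroup G) := fun hle =>
      not_normalizer_le_centralizer h.noncomm hqd Q (hle.trans hab)
    have h2 : 2 * Nat.card (Q : Subgroup G) ≤ Nat.card N := by
      obtain ⟨c, hc⟩ := hQN
      rcases c with _ | _ | c
      · have : 0 < Nat.card N := Nat.card_pos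
        omega
      · exact absurd (eq_of_le_of_card_ge le_normalizer (by rw [hc]; simp)).ge hne
      · rw [hc]; nlinarith
    have hZ : Nat.card Z = Nat.card (Q : Subgroup G) := by rw [show Z = (Q : Subgroup G) from inf_eq_left.2 hab]
    rw [hZ] at hb
    have h3 : 2 * Nat.card (Q : Subgroup G) * C ≤ Nat.card G * (Nat.card (Q : Subgroup G) - 1) :=
      le_trans (Nat.mul_le_mul h2 le_rfl) hb
    have hNQ : 2 * Nat.card (Q : Subgroup G) ≤ Nat.card G :=
      h2.trans (Nat.le_of_dvd Nat.card_pos (card_subgroup_dvd_card _))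
    obtain ⟨j, hj⟩ : ∃ j, Nat.card (Q : Subgroup G) = j + 1 :=
      ⟨_, (Nat.succ_pred_eq_of_pos hQpos).symm⟩
    rw [hj] at h3 hNQ
    simp only [Nat.add_sub_cancel] at h3
    by_contra hlt
    have : (j + 1) * Nat.card G ≤ (j + 1) * (2 * C + 1) := Nat.mul_le_mul le_rfl (by omega)
    nlinarith
  · have h2 : 2 * Nat.card Z ≤ Nat.card (Q : Subgroup G) := by
      obtain ⟨c, hc⟩ := card_dvd_of_le (inf_le_left : Z ≤ (Q : Subgroup G))
      rcases c with _ | _ | c
      · omega
      · exact absurd ((eq_of_le_of_card_ge inf_le_left (by rw [hc]; simp)).ge.trans inf_le_right) hab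
      · rw [hc]; nlinarith
    have hNle : Nat.card (Q : Subgroup G) ≤ Nat.card N := Nat.le_of_dvd Nat.card_pos hQN
    have h3 : Nat.card (Q : Subgroup G) * C ≤ Nat.card G * (Nat.card Z - 1) :=
      le_trans (Nat.mul_le_mul hNle le_rfl) hb
    obtain ⟨z, hz⟩ : ∃ z, Nat.card Z = z + 1 :=
      ⟨_, (Nat.succ_pred_eq_of_pos Nat.card_pos).symm⟩
    rw [hz] at h3 h2
    simp only [Nat.add_sub_cancel] at h3
    by_contra hlt
    have : Nat.card (Q : Subgroup G) * Nat.card G ≤ Nat.card (Q : Subgroup G) * (2 * C + 1) :=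
      Nat.mul_le_mul le_rfl (by omega)
    nlinarith

variable (S : Sylow 2 G)

theorem Orbit5.card_le_cent_mul {u : G} (hu : u ∈ (S : Subgroup G)) (hu1 : u ≠ 1) {K : Subgroup G}
    (hK : K ≤ centralizer ({u} : Set G)) (hodd : Odd (Nat.card K)) :
    Nat.card (S : Subgroup G) * Nat.card K ≤ Nat.card (centralizer ({u} : Set G)) := by
  have hdis : Disjoint (S : Subgroup G) K := by
    haveI := Fact.mk Nat.prime_two
    obtain ⟨n, hn⟩ := IsPGroup.iff_card.1 S.2
    refine disjoint_of_coprime_natCard ?_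
    rw [hn]
    exact Nat.Coprime.pow_left _ (Nat.coprime_two_left.2 hodd)
  rw [← Nat.card_prod]
  refine Nat.card_le_card_of_injective
    (fun x => (⟨(x.1 : G) * (x.2 : G), mul_mem (h.sylow_le_centralizer S hu x.1.2) (hK x.2.2)⟩ :
      centralizer ({u} : Set G))) ?_
  intro a b e
  exact mul_injective_of_disjoint hdis (congrArg Subtype.val e)

/-- Semiregular action of the normaliser: the bound on elements of even order. -/
theorem Orbit5.semi_even
    (hshape : ∀ u ∈ (S : Subgroup G), u ≠ 1 → ∃ K : Subgroup G, K ≤ centralizer ({u} : Set G) ∧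
      centralizer ({u} : Set G) ≤ normalizer (K : Set G) ∧ Odd (Nat.card K) ∧
      ∀ c ∈ centralizer ({u} : Set G), ∃ a ∈ K, ∃ s ∈ (S : Subgroup G), c = a * s)
    (m : ℕ) (hm : ∀ u ∈ (S : Subgroup G), u ≠ 1 →
      m ≤ {v : G | v ∈ (S : Subgroup G) ∧ v ≠ 1 ∧ IsConj u v}.ncard) :
    m * Nat.card (S : Subgroup G) * (evenSet h).ncard ≤
      Nat.card G * (Nat.card (S : Subgroup G) - 1) := by
  set k := Nat.card (S : Subgroup G)
  have hk : 0 < k := Nat.card_pos
  have hb := h.even_bound S m (Nat.card G / k) hm fun u hu hu1 => by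
    rw [Nat.le_div_iff_mul_le hk]
    obtain ⟨K, hKC, hKn, hKodd, hdec⟩ := hshape u hu hu1
    have hu2 := h.orderOf_eq_two S hu hu1
    have hF : {c : G | c ∈ centralizer ({u} : Set G) ∧ c ^ p = 1} ⊆ (K : Set G) := by
      rintro c ⟨hc, hcp⟩
      obtain ⟨a, ha, s, hs, rfl⟩ := hdec c hc
      have hsn : zpowers s ≤ normalizer (K : Set G) :=
        zpowers_le.2 (hKn (h.sylow_le_centralizer S hu hs))
      have key : ∀ n : ℕ, ∃ b ∈ K, (a * s) ^ n = b * s ^ n := by
        intro n
        induction n with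
        | zero => exact ⟨1, K.one_mem, by simp⟩
        | succ n ih =>
          obtain ⟨b, hb, e⟩ := ih
          refine ⟨b * (s ^ n * a * (s ^ n)⁻¹), K.mul_mem hb
            (Coprime.conj_mem_of_mem_normalizer (hsn (Subgroup.npow_mem_zpowers s n)) ha), ?_⟩
          rw [pow_succ, e, pow_succ]; group
      obtain ⟨b, hb, e⟩ := key p
      rw [pow_eq_self_of_odd (h.sylow_sq S s hs) h.odd_p] at e
      rw [hcp] at e
      have hsK : s ∈ K := by
        have : s = b⁻¹ := eq_inv_of_mul_eq_one_right e.symm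
        rw [this]; exact K.inv_mem hb
      exact K.mul_mem ha hsK
    have h1 := h.clsEven_bound hu2
    have h2 : {c : G | c ∈ centralizer ({u} : Set G) ∧ c ^ p = 1}.ncard ≤ Nat.card K :=
      (Set.ncard_le_ncard hF).trans_eq (ncard_coe K)
    have h3 := h.card_le_cent_mul S hu hu1 hKC hKodd
    have h4 : k * Nat.card K * (clsEven h u).ncard ≤ Nat.card G * Nat.card K :=
      le_trans (Nat.mul_le_mul h3 le_rfl) (h1.trans (Nat.mul_le_mul le_rfl h2))
    refine Nat.le_of_mul_le_mul_right ?_ (Nat.card_pos (α := K))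
    calc (clsEven h u).ncard * k * Nat.card K = k * Nat.card K * (clsEven h u).ncard := by ring
      _ ≤ Nat.card G * Nat.card K := h4
  calc m * k * (evenSet h).ncard = m * (evenSet h).ncard * k := by ring
    _ ≤ (k - 1) * (Nat.card G / k) * k := Nat.mul_le_mul hb le_rfl
    _ ≤ (k - 1) * Nat.card G := by
      rw [mul_assoc]
      exact Nat.mul_le_mul le_rfl (Nat.div_mul_le_self _ _)
    _ = Nat.card G * (k - 1) := mul_comm _ _

theorem Orbit5.centralizer_le_normalizer :
    centralizer ((S : Subgroup G) : Set G) ≤ normalizer ((S : Subgroup G) : Set G) := fun g hg => by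
  refine Coprime.mem_normalizer_of_le_iff (fun x hx => ?_) (fun x hx => ?_)
  · rw [← (mem_centralizer_iff_comm.1 hg x hx), mul_inv_cancel_right]; exact hx
  · rw [mul_assoc, mem_centralizer_iff_comm.1 hg x hx, ← mul_assoc, inv_mul_cancel, one_mul]
    exact hx

theorem Orbit5.sylow_le_cent : (S : Subgroup G) ≤ centralizer ((S : Subgroup G) : Set G) :=
  fun s hs => mem_centralizer_iff_comm.2 fun z hz => h.sylow_comm S z hz s hs

/-- The index of `C(S)` in `N(S)` when the action is semiregular. -/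
theorem Orbit5.semi_index
    (hsemi : ∀ u ∈ (S : Subgroup G), u ≠ 1 → ∀ n ∈ normalizer ((S : Subgroup G) : Set G),
      n ∈ centralizer ({u} : Set G) → n ∈ centralizer ((S : Subgroup G) : Set G)) :
    ∃ i : ℕ, 3 ≤ i ∧ (Nat.card (S : Subgroup G) = 8 → 7 ≤ i) ∧
      ∀ u ∈ (S : Subgroup G), u ≠ 1 →
        i ≤ {v : G | v ∈ (S : Subgroup G) ∧ v ≠ 1 ∧ IsConj u v}.ncard := by
  classical
  haveI := h.simple
  haveI := Fact.mk Nat.prime_two
  set N := normalizer ((S : Subgroup G) : Set G) with hN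
  set C := centralizer ((S : Subgroup G) : Set G) with hC
  have hCN : C ≤ N := h.centralizer_le_normalizer S
  refine ⟨C.relIndex N, ?_, ?_, ?_⟩
  · have hne : C.relIndex N ≠ 1 := fun e => not_normalizer_le_centralizer h.noncomm h.two_dvd S
      (relIndex_eq_one.1 e)
    have hodd : ¬ 2 ∣ C.relIndex N := by
      intro hd
      have h1 : (S : Subgroup G).relIndex C * C.relIndex N = (S : Subgroup G).relIndex N :=
        relIndex_mul_relIndex _ _ _ (h.sylow_le_cent S) hCN
      have h2 : 2 ∣ (S : Subgroup G).relIndex N := h1 ▸ hd.mul_left _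
      exact S.not_dvd_index (h2.trans (relIndex_dvd_index_of_le le_normalizer))
    have h0 : C.relIndex N ≠ 0 := by
      rw [relIndex]; exact FiniteIndex.index_ne_zero
    omega
  · intro hk
    by_contra hlt
    push Not at hlt
    have hne : C.relIndex N ≠ 1 := fun e => not_normalizer_le_centralizer h.noncomm h.two_dvd S
      (relIndex_eq_one.1 e)
    obtain ⟨r, hr, hrd⟩ := Nat.exists_prime_and_dvd hne
    haveI := Fact.mk hr
    have h0 : C.relIndex N ≠ 0 := by
      rw [relIndex]; exact FiniteIndex.index_ne_zero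
    have hr7 : r < 7 := lt_of_le_of_lt (Nat.le_of_dvd (Nat.pos_of_ne_zero h0) hrd) hlt
    haveI : (C.subgroupOf N).Normal := by
      rw [normal_subgroupOf_iff_le_normalizer hCN]
      exact Coprime.le_normalizer_centralizer (A := N) le_rfl
    obtain ⟨nb, hnb⟩ := exists_prime_orderOf_dvd_card' (G := N ⧸ C.subgroupOf N) r hrd
    obtain ⟨n, rfl⟩ := QuotientGroup.mk_surjective nb
    have hnC : (n : G) ∉ C := fun hc => by
      have : (n : N ⧸ C.subgroupOf N) = 1 := (QuotientGroup.eq_one_iff n).2 hc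
      rw [this, orderOf_one] at hnb
      exact hr.ne_one hnb.symm
    have hnr : (n : G) ^ r ∈ C := by
      have h1 : (n : N ⧸ C.subgroupOf N) ^ r = 1 := hnb ▸ pow_orderOf_eq_one _
      rw [← QuotientGroup.mk_pow, QuotientGroup.eq_one_iff] at h1
      exact h1
    have hnn : ∀ z ∈ (S : Subgroup G), (n : G) * z * (n : G)⁻¹ ∈ (S : Subgroup G) := fun z hz =>
      (mem_normalizer_iff.1 n.2 z).1 hz
    let f : Equiv.Perm (S : Subgroup G) := Equiv.ofBijective
      (fun z => ⟨(n : G) * z * (n : G)⁻¹, hnn z z.2⟩) (Finite.injective_iff_bijective.1 fun a b e => by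
        have := congrArg Subtype.val e
        exact Subtype.ext (mul_left_cancel (mul_right_cancel this)))
    have hf : ∀ (j : ℕ) (z : (S : Subgroup G)),
        ((f ^ j) z : G) = (n : G) ^ j * z * ((n : G) ^ j)⁻¹ := by
      intro j
      induction j with
      | zero => intro z; simp
      | succ j ih =>
        intro z
        rw [pow_succ', Equiv.Perm.mul_apply]
        show (n : G) * ((f ^ j) z : G) * (n : G)⁻¹ = _
        rw [ih z, pow_succ']
        group
    have hfr : f ^ r ^ 1 = 1 := by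
      ext z
      rw [pow_one, hf r z, Equiv.Perm.one_apply]
      rw [← mem_centralizer_iff_comm.1 hnr z z.2, mul_inv_cancel_right]
    cases nonempty_fintype (S : Subgroup G)
    have hcong := Equiv.Perm.card_compl_support_modEq (σ := f) hfr
    have hsupp : f.supportᶜ = {1} := by
      ext z
      simp only [Finset.mem_compl, Equiv.Perm.mem_support, not_not, Finset.mem_singleton]
      constructor
      · intro hz
        by_contra hz1
        have hz' : (n : G) * z * (n : G)⁻¹ = z := congrArg Subtype.val hz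
        refine hnC (hsemi z z.2 (fun e => hz1 (Subtype.ext e)) n n.2 ?_)
        exact mem_centralizer_sg.2 (mul_inv_eq_iff_eq_mul.1 hz').symm
      · rintro rfl
        exact Subtype.ext (by show (n : G) * 1 * (n : G)⁻¹ = 1; group)
    rw [hsupp, Finset.card_singleton, Fintype.card_eq_nat_card, hk] at hcong
    have h7 : r ∣ 7 := by
      have := (Nat.modEq_iff_dvd' (by norm_num : 1 ≤ 8)).1 hcong
      simpa using this
    have := (Nat.prime_dvd_prime_iff_eq hr (by norm_num)).1 h7
    omega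
  · intro u hu hu1
    set O := {v : G | v ∈ (S : Subgroup G) ∧ v ≠ 1 ∧ IsConj u v}
    have h1 := mul_ncard_le (ι := O) (fun v => {n : G | n ∈ N ∧ n * u * n⁻¹ = v}) (N : Set G) 1
      (Nat.card C) (fun v => ?_) fun n hn => ?_
    · rw [one_mul, ncard_coe, Nat.card_coe_set_eq] at h1
      have h2 : C.relIndex N * Nat.card C = Nat.card N := by
        rw [mul_comm, relIndex, ← Nat.card_congr (subgroupOfEquivOfLe hCN).toEquiv]
        exact card_mul_index _
      exact Nat.le_of_mul_le_mul_right (h2 ▸ h1) Nat.card_pos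
    · rcases Set.eq_empty_or_nonempty {n : G | n ∈ N ∧ n * u * n⁻¹ = v} with e | ⟨n0, hn0, he0⟩
      · rw [e, Set.ncard_empty]; exact Nat.zero_le _
      · rw [← ncard_coe C]
        refine Set.ncard_le_ncard_of_injOn (fun n => n0⁻¹ * n) (fun n hn => ?_)
          (fun a _ b _ e => mul_left_cancel e)
        refine hsemi u hu hu1 _ (mul_mem (inv_mem hn0) hn.1) (mem_centralizer_sg.2 ?_)
        have e2 := hn.2
        calc u * (n0⁻¹ * n) = n0⁻¹ * (n0 * u * n0⁻¹) * n := by group
          _ = n0⁻¹ * (n * u * n⁻¹) * n := by rw [he0, e2]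
          _ = n0⁻¹ * n * u := by group
    · have hv : n * u * n⁻¹ ∈ O := ⟨(mem_normalizer_iff.1 hn u).1 hu,
        fun e => hu1 (conj_eq_one_iff.1 e), isConj_iff.2 ⟨n, rfl⟩⟩
      exact (Set.ncard_pos).2 ⟨⟨_, hv⟩, hn, rfl⟩

end Cfsg.Agent.AutOrbit69
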