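import Cfsg.Agent.AutOrbit69.Semi

/-!
No group has semiregular normaliser action.
-/

set_option autoImplicit false
set_option linter.style.haveILetI false
set_option linter.unusedSectionVars false

namespace Cfsg.Agent.AutOrbit69

open Subgroup

variable {G : Type*} [Group G] [Finite G] {p q : ℕ} (h : Orbit5 G p q) (S : Sylow 2 G)
include h

/-- Case `tw = |S|`. -/
theorem Orbit5.false_of_full {x : G} (hx : orderOf x = p) (hfull : tw x = Nat.card (S : Subgroup G))
    [Fact p.Prime] [Fact q.Prime] : False := by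
  haveI := h.simple
  haveI := Fact.mk Nat.prime_two
  set k := Nat.card (S : Subgroup G)
  have hsemi : ∀ u ∈ (S : Subgroup G), u ≠ 1 → ∀ n ∈ normalizer ((S : Subgroup G) : Set G),
      n ∈ centralizer ({u} : Set G) → n ∈ centralizer ((S : Subgroup G) : Set G) :=
    fun u hu hu1 n _ hn => h.cent_le_of_full S hx hfull hu hu1 hn
  obtain ⟨i, hi, -, hm⟩ := h.semi_index S hsemi
  have hE := h.semi_even S (fun u hu hu1 => ?_) i hm
  · obtain ⟨P⟩ : Nonempty (Sylow p G) := inferInstance
    obtain ⟨Q⟩ : Nonempty (Sylow q G) := inferInstance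
    have hP := h.p_bound P hx
    rw [hfull] at hP
    have hP' := mul_add_one_le (Nat.card_pos : 0 < Nat.card (P : Subgroup G))
      (Nat.le_of_dvd Nat.card_pos (card_subgroup_dvd_card _)) hP
    refine num_a (Nat.card G) k _ _ _ (h.four_le_card S) ?_ hP' (h.q_two_bound Q) h.card_partition
    exact le_trans (Nat.mul_le_mul (Nat.mul_le_mul hi le_rfl) le_rfl) hE
  · -- the odd part of an involution centraliser
    set C := centralizer ({u} : Set G)
    have hu2 := h.orderOf_eq_two S hu hu1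
    have hSC : (S : Subgroup G) ≤ C := h.sylow_le_centralizer S hu
    have hcen : ∀ s ∈ (S : Subgroup G), ∀ c ∈ C, c * s = s * c := fun s hs c hc =>
      (mem_centralizer_iff_comm.1 (h.cent_le_of_full S hx hfull hu hu1 hc) s hs).symm
    obtain ⟨S', hS'⟩ := h.sylow_sub S hu
    obtain ⟨P⟩ : Nonempty (Sylow p C) := inferInstance
    have hcardC := card_eq_mul_pow h.hp h.p2 (H := C) fun r hr hd => h.cent_primes hu2 hr hd
    have hcompl : IsComplement' (P : Subgroup C) (S' : Subgroup C) := isComplement'_of_coprime (by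
      rw [P.card_eq_multiplicity, S'.card_eq_multiplicity]
      conv_rhs => rw [hcardC]
      rw [mul_comm]) (by
      rw [P.card_eq_multiplicity, S'.card_eq_multiplicity]
      exact Nat.Coprime.pow _ _ ((Nat.coprime_primes h.hp Nat.prime_two).2 h.p2))
    have hdec : ∀ c ∈ C, ∃ a ∈ (P : Subgroup C).map C.subtype, ∃ s ∈ (S : Subgroup G), c = a * s := by
      intro c hc
      obtain ⟨⟨a, s⟩, he⟩ := hcompl.2 ⟨c, hc⟩
      exact ⟨((a : C) : G), ⟨a, a.2, rfl⟩, ((s : C) : G), (SetLike.ext_iff.1 hS' _).1 s.2,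
        (congrArg Subtype.val he).symm⟩
    refine ⟨(P : Subgroup C).map C.subtype, map_subtype_le _, ?_, ?_, hdec⟩
    · intro c hc
      obtain ⟨a, ha, s, hs, rfl⟩ := hdec c hc
      refine mul_mem (le_normalizer ha) (Coprime.mem_normalizer_of_le_iff (fun z hz => ?_) fun z hz => ?_)
      · rw [← hcen s hs z (map_subtype_le _ hz), mul_inv_cancel_right]; exact hz
      · rw [mul_assoc, hcen s hs z (map_subtype_le _ hz), ← mul_assoc, inv_mul_cancel, one_mul]
        exact hz
    · rw [card_map_of_injective (Subgroup.subtype_injective _), P.card_eq_multiplicity]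
      exact h.odd_p.pow

/-- When elements of order `p` centralise no full Sylow `2`-subgroup, `C(S) = S`. -/
theorem Orbit5.centralizer_le_of_not_full {x : G} (hx : orderOf x = p)
    (hnf : tw x ≠ Nat.card (S : Subgroup G)) :
    centralizer ((S : Subgroup G) : Set G) ≤ (S : Subgroup G) := by
  haveI := Fact.mk Nat.prime_two
  intro c hc
  have hno : ∀ d : G, orderOf d = p → d ∈ centralizer ((S : Subgroup G) : Set G) → False := by
    intro d hd hdc
    refine hnf ?_
    rw [h.tw_eq hx hd]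
    refine le_antisymm (tw_le_card S d) (Nat.le_of_dvd (Nat.two_pow_pos _) (card_dvd_tw S.2 ?_))
    exact fun s hs => mem_centralizer_sg.2 (mem_centralizer_iff_comm.1 hdc s hs).symm
  obtain ⟨u, hu, hu1⟩ := ((S : Subgroup G).bot_or_exists_ne_one).resolve_left fun e => by
    have := h.four_le_card S
    rw [e, card_bot] at this
    omega
  have hnorm : c ∈ normalizer ((S : Subgroup G) : Set G) := h.centralizer_le_normalizer S hc
  rcases h.orders c with o | o | o | o | o
  · rw [orderOf_eq_one_iff.1 o]; exact one_mem _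
  · have hp2 : IsPGroup 2 (zpowers c) := IsPGroup.of_card (n := 1) (by rw [Nat.card_zpowers, o, pow_one])
    have hsup : IsPGroup 2 (zpowers c ⊔ (S : Subgroup G) : Subgroup G) :=
      IsPGroup.to_sup_of_normal_right' hp2 S.2 (zpowers_le.2 hnorm)
    rw [← S.3 hsup le_sup_right]
    exact mem_sup_left (mem_zpowers c)
  · exact (hno c o hc).elim
  · exact (h.not_mul (show Commute c u from (mem_centralizer_iff_comm.1 hc u hu).symm) o
      (Or.inl (h.orderOf_eq_two S hu hu1))).elim
  · refine (hno (c ^ 2) ?_ (pow_mem hc 2)).elim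
    rw [orderOf_pow, o, Nat.gcd_mul_right_left, Nat.mul_div_cancel_left _ two_pos]

theorem two_mul_le_of_pow_lt {a b : ℕ} (hlt : 2 ^ a < 2 ^ b) : 2 * 2 ^ a ≤ 2 ^ b := by
  rw [← pow_succ']
  exact Nat.pow_le_pow_right two_pos ((Nat.pow_lt_pow_iff_right (by norm_num)).1 hlt)

/-- An odd subgroup normalised by `S` and centralising a point forces large centralisers. -/
theorem Orbit5.card_le_two_tw (hCS : centralizer ((S : Subgroup G) : Set G) ≤ (S : Subgroup G))
    {x : G} (hx : orderOf x = p) {u : G} (hu : u ∈ (S : Subgroup G)) (hu1 : u ≠ 1) {K : Subgroup G}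
    (hKC : K ≤ centralizer ({u} : Set G)) (hKn : centralizer ({u} : Set G) ≤ normalizer (K : Set G))
    (hodd : Odd (Nat.card K)) (hK : K ≠ ⊥) : Nat.card (S : Subgroup G) ≤ 2 * tw x := by
  classical
  haveI := Fact.mk Nat.prime_two
  haveI hSc : IsMulCommutative (S : Subgroup G) :=
    ⟨⟨fun a b => Subtype.ext (h.sylow_comm S _ a.2 _ b.2)⟩⟩
  have hcop : (Nat.card (S : Subgroup G)).Coprime (Nat.card K) := by
    obtain ⟨n, hn⟩ := IsPGroup.iff_card.1 S.2
    rw [hn]
    exact Nat.Coprime.pow_left _ (Nat.coprime_two_left.2 hodd)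
  set T : Set (Subgroup G) := {U | U ≤ (S : Subgroup G) ∧ K ⊓ centralizer (U : Set G) ≠ ⊥}
  have hT : (⊥ : Subgroup G) ∈ T := by
    refine ⟨bot_le, fun e => hK ?_⟩
    rw [eq_bot_iff] at e ⊢
    exact fun z hz => e ⟨hz, mem_centralizer_iff_comm.2 fun y hy => by simp [mem_bot.1 hy]⟩
  obtain ⟨U, hU⟩ := (Set.toFinite T).exists_maximal ⟨⊥, hT⟩
  obtain ⟨⟨hUS, hne⟩, hmax⟩ := hU
  obtain ⟨z, hz, hz1⟩ := (Subgroup.bot_or_exists_ne_one _).resolve_left hne
  have hzo : orderOf z = p := by
    refine h.orderOf_of_odd (h.orderOf_eq_two S hu hu1)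
      (mem_centralizer_sg.1 (hKC hz.1)) ?_ hz1
    have := Odd.of_dvd_nat hodd (orderOf_dvd_natCard (⟨z, hz.1⟩ : K))
    rwa [Subgroup.orderOf_mk] at this
  have hUtw : Nat.card U ≤ tw x := by
    rw [h.tw_eq hx hzo]
    exact Nat.le_of_dvd (Nat.two_pow_pos _) (card_dvd_tw (S.2.to_le hUS) fun y hy =>
      mem_centralizer_sg.2 (mem_centralizer_iff_comm.1 hz.2 y hy).symm)
  have hUneS : ¬ (S : Subgroup G) ≤ U := fun hle => by
    have : z ∈ centralizer ((S : Subgroup G) : Set G) :=
      mem_centralizer_iff_comm.2 fun s hs => mem_centralizer_iff_comm.1 hz.2 s (hle hs)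
    have hzS := hCS this
    have : z ^ 2 = 1 := h.sylow_sq S z hzS
    have := orderOf_dvd_of_pow_eq_one this
    rw [hzo] at this
    exact h.p2 ((Nat.prime_dvd_prime_iff_eq h.hp Nat.prime_two).1 this)
  obtain ⟨a, ha, haU⟩ := SetLike.not_le_iff_exists.1 hUneS
  have hle : (S : Subgroup G) ≤ U ⊔ zpowers a :=
    le_sup_zpowers (S : Subgroup G) U K Nat.prime_two (h.sylow_sq S)
      ((h.sylow_le_centralizer S hu).trans hKn) hcop hUS hne (fun b hb hbU => by
        by_contra hb'
        obtain ⟨y, hy, hy1⟩ := (Subgroup.bot_or_exists_ne_one _).resolve_left hb'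
        have hle' : U ⊔ zpowers b ∈ T := by
          refine ⟨sup_le hUS (zpowers_le.2 hb), fun e => hy1 ?_⟩
          rw [← mem_bot, ← e]
          refine ⟨hy.1.1, mem_centralizer_iff_comm.2 fun w hw => ?_⟩
          have : U ⊔ zpowers b ≤ centralizer ({y} : Set G) :=
            sup_le (fun w hw => mem_centralizer_sg.2 (mem_centralizer_iff_comm.1 hy.1.2 w hw).symm)
              (zpowers_le.2 (mem_centralizer_sg.2 (mem_centralizer_sg.1 hy.2).symm))
          exact (mem_centralizer_sg.1 (this hw)).symm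
        exact hbU (hmax hle' le_sup_left (mem_sup_right (mem_zpowers b)))) ha haU
  have han : zpowers a ≤ normalizer (U : Set G) := fun y hy => by
    refine Coprime.mem_normalizer_of_le_iff (fun w hw => ?_) (fun w hw => ?_)
    · rw [h.sylow_comm S y (zpowers_le.2 ha hy) w (hUS hw), mul_inv_cancel_right]; exact hw
    · rw [mul_assoc, h.sylow_comm S w (hUS hw) y (zpowers_le.2 ha hy), ← mul_assoc, inv_mul_cancel,
        one_mul]
      exact hw
  calc Nat.card (S : Subgroup G) ≤ Nat.card (U × zpowers a) := by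
        refine Nat.card_le_card_of_surjective (fun w : U × zpowers a =>
          (⟨(w.1 : G) * w.2, mul_mem (hUS w.1.2) (zpowers_le.2 ha w.2.2)⟩ : (S : Subgroup G))) ?_
        rintro ⟨s, hs⟩
        have hs' : s ∈ ((U ⊔ zpowers a : Subgroup G) : Set G) := hle hs
        rw [coe_mul_of_right_le_normalizer_left _ _ han] at hs'
        obtain ⟨w, hw, v, hv, e⟩ := hs'
        exact ⟨(⟨w, hw⟩, ⟨v, hv⟩), Subtype.ext e⟩
    _ = Nat.card U * 2 := by
        rw [Nat.card_prod, Nat.card_zpowers,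
          h.orderOf_eq_two S ha (fun e => haU (e ▸ one_mem U))]
    _ ≤ 2 * tw x := by omega

/-- The semiregular case is impossible. -/
theorem Orbit5.false_of_semi [Fact p.Prime] [Fact q.Prime]
    (hsemi : ∀ u ∈ (S : Subgroup G), u ≠ 1 → ∀ n ∈ normalizer ((S : Subgroup G) : Set G),
      n ∈ centralizer ({u} : Set G) → n ∈ centralizer ((S : Subgroup G) : Set G)) : False := by
  haveI := h.simple
  haveI := Fact.mk Nat.prime_two
  obtain ⟨x, hx⟩ := h.exists_p
  by_cases hfull : tw x = Nat.card (S : Subgroup G)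
  · exact h.false_of_full S hx hfull
  have hCS := h.centralizer_le_of_not_full S hx hfull
  have hshape : ∀ u ∈ (S : Subgroup G), u ≠ 1 → ∃ K : Subgroup G, K ≤ centralizer ({u} : Set G) ∧
      centralizer ({u} : Set G) ≤ normalizer (K : Set G) ∧ Odd (Nat.card K) ∧
      ∀ c ∈ centralizer ({u} : Set G), ∃ a ∈ K, ∃ s ∈ (S : Subgroup G), c = a * s := by
    intro u hu hu1
    obtain ⟨K, hK1, hK2, hK3, hK4, -⟩ := h.cent_shape S hCS hu hu1
    refine ⟨K, hK1, hK2, hK3, fun c hc => ?_⟩
    obtain ⟨a, ha, m, hm, e⟩ := hK4 c hc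
    exact ⟨a, ha, m, hCS (hsemi u hu hu1 m hm.2 hm.1), e⟩
  obtain ⟨i, hi, hi7, hm⟩ := h.semi_index S hsemi
  have hE := h.semi_even S hshape i hm
  obtain ⟨P⟩ : Nonempty (Sylow p G) := inferInstance
  obtain ⟨Q⟩ : Nonempty (Sylow q G) := inferInstance
  have hQ := h.q_two_bound Q
  have hN := h.card_partition
  have hP := h.p_bound P hx
  have hP' := mul_add_one_le (Nat.card_pos : 0 < Nat.card (P : Subgroup G))
    (Nat.le_of_dvd Nat.card_pos (card_subgroup_dvd_card _)) hP
  have hk4 := h.four_le_card S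
  -- some odd part is nontrivial
  obtain ⟨v, hv, hcomm⟩ := h.exists_commuting_involution hx
  obtain ⟨u, hu, hu1, hconj⟩ := h.exists_conj_involution S hv
  obtain ⟨c, hc⟩ := isConj_iff.1 hconj
  obtain ⟨K, hK1, hK2, hK3, hK4⟩ := hshape u hu hu1
  have hKne : K ≠ ⊥ := by
    intro e
    have hx' : c⁻¹ * x * c ∈ centralizer ({u} : Set G) := by
      rw [mem_centralizer_sg]
      have := hcomm.eq
      rw [← hc] at this
      calc u * (c⁻¹ * x * c) = c⁻¹ * ((c * u * c⁻¹) * x) * c := by group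
        _ = c⁻¹ * (x * (c * u * c⁻¹)) * c := by rw [this]
        _ = c⁻¹ * x * c * u := by group
    obtain ⟨a, ha, s, hs, he⟩ := hK4 _ hx'
    rw [e, mem_bot] at ha
    rw [ha, one_mul] at he
    have ho : orderOf s = p := by
      rw [← he, ← hx]
      have := orderOf_injective (MulAut.conj c⁻¹).toMonoidHom (MulAut.conj c⁻¹).injective x
      simpa [MulAut.conj_apply] using this
    have := orderOf_dvd_of_pow_eq_one (h.sylow_sq S s hs)
    rw [ho] at this
    exact h.p2 ((Nat.prime_dvd_prime_iff_eq h.hp Nat.prime_two).1 this)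
  have hk2t := h.card_le_two_tw S hCS hx hu hu1 hK1 hK2 hK3 hKne
  have hlt : tw x < Nat.card (S : Subgroup G) := lt_of_le_of_ne (tw_le_card S x) hfull
  have h2t : 2 * tw x ≤ Nat.card (S : Subgroup G) := by
    rw [S.card_eq_multiplicity] at hlt ⊢
    exact two_mul_le_of_pow_lt h hlt
  have hk : Nat.card (S : Subgroup G) = 2 * tw x := le_antisymm hk2t h2t
  obtain ⟨n, hn⟩ := IsPGroup.iff_card.1 S.2
  rcases Nat.lt_or_ge n 4 with hn4 | hn4
  swap
  · have hk16 : 16 ≤ Nat.card (S : Subgroup G) := by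
      rw [hn]; exact le_trans (by norm_num) (Nat.pow_le_pow_right two_pos hn4)
    refine num_b (Nat.card G) _ _ _ _ hk16
      (le_trans (Nat.mul_le_mul (Nat.mul_le_mul hi le_rfl) le_rfl) hE) ?_ hQ hN
    rw [hk, mul_assoc]
    omega
  rcases (show n = 2 ∨ n = 3 by
    rcases n with _ | _ | n
    · rw [hn] at hk4; simp at hk4
    · rw [hn] at hk4; simp at hk4
    · omega) with rfl | rfl
  swap
  · -- `|S| = 8`
    have h8 : Nat.card (S : Subgroup G) = 8 := hn
    rw [h8] at hE hk
    have ht : tw x = 4 := by omega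
    rw [ht] at hP'
    refine num_eight (Nat.card G) _ _ _ ?_ hP' hQ hN
    have : 7 * 8 * (evenSet h).ncard ≤ i * 8 * (evenSet h).ncard :=
      Nat.mul_le_mul (Nat.mul_le_mul (hi7 h8) le_rfl) le_rfl
    omega
  -- `|S| = 4`
  have h4 : Nat.card (S : Subgroup G) = 4 := hn
  rw [h4] at hE hk
  have ht : tw x = 2 := by omega
  refine num_four (Nat.card G) _ _ _ ?_ ?_ hQ hN
  · have : 3 * 4 * (evenSet h).ncard ≤ i * 4 * (evenSet h).ncard :=
      Nat.mul_le_mul (Nat.mul_le_mul hi le_rfl) le_rfl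
    omega
  -- all involutions are conjugate to `u`
  have hone : ∀ w ∈ (S : Subgroup G), w ≠ 1 → IsConj u w := by
    intro w hw hw1
    have h1 : {v : G | v ∈ (S : Subgroup G) ∧ v ≠ 1 ∧ IsConj u v} = ((S : Subgroup G) : Set G) \ {1} := by
      refine Set.eq_of_subset_of_ncard_le (fun v hv => ⟨hv.1, hv.2.1⟩) ?_
      rw [ncard_coe_diff_one, h4]
      exact hi.trans (hm u hu hu1)
    have : w ∈ {v : G | v ∈ (S : Subgroup G) ∧ v ≠ 1 ∧ IsConj u v} := h1 ▸ ⟨hw, hw1⟩
    exact this.2.2
  -- an involution of `S` inverting `K`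
  obtain ⟨s, hs, hsu⟩ : ∃ s ∈ (S : Subgroup G), s ∉ zpowers u := by
    apply SetLike.not_le_iff_exists.1
    intro hle
    have := card_le_of_le hle
    rw [Nat.card_zpowers, h.orderOf_eq_two S hu hu1, h4] at this
    omega
  have hs1 : s ≠ 1 := fun e => hsu (e ▸ one_mem _)
  have hsC : s ∈ centralizer ({u} : Set G) := h.sylow_le_centralizer S hu hs
  have hgenS : (S : Subgroup G) ≤ zpowers u ⊔ zpowers s := by
    have h2 : Nat.card (zpowers u) = 2 := by rw [Nat.card_zpowers, h.orderOf_eq_two S hu hu1]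
    have hle : zpowers u ⊔ zpowers s ≤ (S : Subgroup G) := sup_le (zpowers_le.2 hu) (zpowers_le.2 hs)
    have hlt' : 2 < Nat.card (zpowers u ⊔ zpowers s : Subgroup G) := by
      rw [← h2]
      refine lt_of_le_of_ne (card_le_of_le le_sup_left) fun e => hsu ?_
      rw [eq_of_le_of_card_ge le_sup_left e.ge]
      exact mem_sup_right (mem_zpowers s)
    have hdvd := card_dvd_of_le hle
    rw [h4] at hdvd
    refine (eq_of_le_of_card_ge hle ?_).ge
    rw [h4]
    have := Nat.le_of_dvd (by norm_num) hdvd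
    interval_cases hc' : Nat.card (zpowers u ⊔ zpowers s : Subgroup G) <;> omega
  have hfix : ∀ z ∈ K, s * z * s⁻¹ = z → z = 1 := by
    intro z hz he
    have hzc : z ∈ centralizer ((S : Subgroup G) : Set G) := by
      refine mem_centralizer_iff_comm.2 fun w hw => ?_
      have : zpowers u ⊔ zpowers s ≤ centralizer ({z} : Set G) :=
        sup_le (zpowers_le.2 (mem_centralizer_sg.2 (mem_centralizer_sg.1 (hK1 hz)).symm))
          (zpowers_le.2 (mem_centralizer_sg.2 (mul_inv_eq_iff_eq_mul.1 he).symm))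
      exact (mem_centralizer_sg.1 (this (hgenS hw))).symm
    have h1 : z ^ 2 = 1 := h.sylow_sq S z (hCS hzc)
    have h2 := Odd.of_dvd_nat hK3 (orderOf_dvd_natCard (⟨z, hz⟩ : K))
    rw [Subgroup.orderOf_mk] at h2
    have h3 := orderOf_dvd_of_pow_eq_one h1
    rcases (Nat.dvd_prime Nat.prime_two).1 h3 with o | o
    · exact orderOf_eq_one_iff.1 o
    · rw [o] at h2; exact absurd h2 (by decide)
  have hsn := hK2 hsC
  have hs2 : s * s = 1 := by rw [← sq]; exact h.sylow_sq S s hs
  have hsinv : s⁻¹ = s := inv_eq_of_mul_eq_one_right hs2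
  have hinv : ∀ z ∈ K, s * z * s⁻¹ = z⁻¹ := by
    let f : K → K := fun z => ⟨(z : G)⁻¹ * (s * z * s⁻¹),
      mul_mem (inv_mem z.2) ((mem_normalizer_iff.1 hsn z).1 z.2)⟩
    have hinj : Function.Injective f := by
      intro a b e
      have e' : (a : G)⁻¹ * (s * a * s⁻¹) = (b : G)⁻¹ * (s * b * s⁻¹) := congrArg Subtype.val e
      have hfixed : s * ((b : G) * (a : G)⁻¹) * s⁻¹ = (b : G) * (a : G)⁻¹ := by
        calc s * ((b : G) * (a : G)⁻¹) * s⁻¹ = (s * b * s⁻¹) * (s * a * s⁻¹)⁻¹ := by group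
          _ = (b : G) * ((b : G)⁻¹ * (s * b * s⁻¹)) * (s * a * s⁻¹)⁻¹ := by group
          _ = (b : G) * (a : G)⁻¹ := by rw [← e']; group
      exact Subtype.ext (mul_inv_eq_one.1 (hfix _ (mul_mem b.2 (inv_mem a.2)) hfixed)).symm
    intro z hz
    obtain ⟨⟨w, hw⟩, e⟩ := (Finite.injective_iff_surjective.1 hinj) ⟨z, hz⟩
    have e' : w⁻¹ * (s * w * s⁻¹) = z := congrArg Subtype.val e
    rw [← e', hsinv]
    calc s * (w⁻¹ * (s * w * s)) * s = (s * w⁻¹ * s) * w * (s * s) := by group
      _ = (w⁻¹ * (s * w * s))⁻¹ := by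
        rw [hs2, _root_.mul_inv_rev, _root_.mul_inv_rev, _root_.mul_inv_rev, hsinv, inv_inv, mul_one]
        group
  -- `|K| ≤ |P|`
  have hKP : Nat.card K ≤ Nat.card (P : Subgroup G) := by
    have hKp : IsPGroup p K := by
      refine IsPGroup.iff_orderOf.2 fun z => ?_
      by_cases hz1 : z = 1
      · exact ⟨0, by rw [hz1, orderOf_one, pow_zero]⟩
      refine ⟨1, ?_⟩
      rw [pow_one, ← Subgroup.orderOf_coe]
      refine h.orderOf_of_odd (h.orderOf_eq_two S hu hu1) (mem_centralizer_sg.1 (hK1 z.2)) ?_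
        fun e => hz1 (Subtype.ext e)
      rw [Subgroup.orderOf_coe]
      exact Odd.of_dvd_nat hK3 (orderOf_dvd_natCard z)
    obtain ⟨R, hR⟩ := hKp.exists_le_sylow
    rw [P.card_eq_multiplicity, ← R.card_eq_multiplicity]
    exact card_le_of_le hR
  have hcount := mul_ncard_conj_le ((K : Set G) \ {1}) {g : G | orderOf g = p}
    (4 * Nat.card (P : Subgroup G)) fun g hg => ?_
  · rw [ncard_coe_diff_one] at hcount
    refine mul_add_one_le (Nat.card_pos : 0 < Nat.card (P : Subgroup G))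
      (Nat.le_of_dvd Nat.card_pos (card_subgroup_dvd_card _)) (hcount.trans ?_)
    exact Nat.mul_le_mul le_rfl (Nat.sub_le_sub_right hKP 1)
  have hg' : orderOf g = p := hg
  obtain ⟨v', hv', hcomm'⟩ := h.exists_commuting_involution hg'
  obtain ⟨w, hw, hw1, hwc⟩ := h.exists_conj_involution S hv'
  obtain ⟨d, hd⟩ := isConj_iff.1 ((hone w hw hw1).trans hwc)
  set z := d⁻¹ * g * d with hz
  have hzC : z ∈ centralizer ({u} : Set G) := by
    rw [mem_centralizer_sg]
    have := hcomm'.eq
    rw [← hd] at this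
    calc u * (d⁻¹ * g * d) = d⁻¹ * ((d * u * d⁻¹) * g) * d := by group
      _ = d⁻¹ * (g * (d * u * d⁻¹)) * d := by rw [this]
      _ = d⁻¹ * g * d * u := by group
  have hzo : orderOf z = p := by
    rw [← hg', hz]
    have := orderOf_injective (MulAut.conj d⁻¹).toMonoidHom (MulAut.conj d⁻¹).injective g
    simpa [MulAut.conj_apply] using this
  have hzK : z ∈ K := by
    obtain ⟨a, ha, r, hr, e⟩ := hK4 z hzC
    by_cases hr1 : r = 1
    · rw [e, hr1, mul_one]; exact ha
    exfalso
    have hrn : zpowers r ≤ normalizer (K : Set G) := zpowers_le.2 (hK2 (h.sylow_le_centralizer S hu hr))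
    have key : ∀ j : ℕ, ∃ b ∈ K, (a * r) ^ j = b * r ^ j := by
      intro j
      induction j with
      | zero => exact ⟨1, K.one_mem, by simp⟩
      | succ j ih =>
        obtain ⟨b, hb, e⟩ := ih
        refine ⟨b * (r ^ j * a * (r ^ j)⁻¹), K.mul_mem hb
          (Coprime.conj_mem_of_mem_normalizer (hrn (Subgroup.npow_mem_zpowers r j)) ha), ?_⟩
        rw [pow_succ, e, pow_succ]; group
    obtain ⟨b, hb, eb⟩ := key p
    rw [← e, ← hzo, pow_orderOf_eq_one, hzo, pow_eq_self_of_odd (h.sylow_sq S r hr) h.odd_p] at eb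
    have hrK : r ∈ K := by
      have : r = b⁻¹ := eq_inv_of_mul_eq_one_right eb.symm
      rw [this]; exact K.inv_mem hb
    have h2 := Odd.of_dvd_nat hK3 (orderOf_dvd_natCard (⟨r, hrK⟩ : K))
    rw [Subgroup.orderOf_mk, h.orderOf_eq_two S hr hr1] at h2
    exact absurd h2 (by decide)
  have hz1 : z ≠ 1 := fun e => by rw [e, orderOf_one] at hzo; exact h.hp.ne_one hzo.symm
  set D := centralizer ({z} : Set G)
  refine ⟨d, (D : Set G) ∪ (fun y => y * s) '' (D : Set G), ?_, fun y hy => ?_⟩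
  · have hsD : s ∉ D := fun hsD => hz1 (hfix z hzK (by
      rw [← mem_centralizer_sg.1 hsD, mul_inv_cancel_right]))
    rw [Set.ncard_union_eq ?_ (Set.toFinite _) (Set.toFinite _),
      Set.ncard_image_of_injective _ (mul_left_injective s), ncard_coe]
    · have := h.le_card_cent rfl P hzo
      rw [← h.tw_eq hx hzo, ht] at this
      change 4 * _ ≤ Nat.card D + Nat.card D
      change 2 * _ ≤ Nat.card D at this
      omega
    · rw [Set.disjoint_left]
      rintro _ hy ⟨y, hy', rfl⟩
      exact hsD ((D.mul_mem_cancel_left hy').1 hy)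
  · have hzdef : z ∈ ((K : Set G) \ {1}) := ⟨hzK, hz1⟩
    rcases hy with hy | ⟨y, hy, rfl⟩
    · have hy' : y ∈ D := hy
      have e : (d * y)⁻¹ * g * (d * y) = z := by
        calc (d * y)⁻¹ * g * (d * y) = y⁻¹ * (z * y) := by rw [hz]; group
          _ = z := by rw [mem_centralizer_sg.1 hy']; group
      rw [e]; exact hzdef
    · have hy' : y ∈ D := hy
      have e : (d * (y * s))⁻¹ * g * (d * (y * s)) = z⁻¹ := by
        calc (d * (y * s))⁻¹ * g * (d * (y * s)) = s⁻¹ * (y⁻¹ * (z * y)) * s := by rw [hz]; group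
          _ = s⁻¹ * z * s := by rw [mem_centralizer_sg.1 hy', ← mul_assoc y⁻¹, inv_mul_cancel, one_mul]
          _ = s * z * s⁻¹ := by rw [hsinv]
          _ = z⁻¹ := hinv z hzK
      rw [e]
      exact ⟨K.inv_mem hzK, fun e' => hz1 (inv_eq_one.1 e')⟩

end Cfsg.Agent.AutOrbit69
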